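import Groth.Agent.AdeqLib.Base
import Mathlib.Algebra.TrivSqZeroExt.Basic
import Mathlib.LinearAlgebra.TensorProduct.Basis
import Mathlib.LinearAlgebra.FreeModule.Finite.Basic
import Mathlib.RingTheory.Finiteness.Cardinality

/-!
Maps out of a linearly adequate functor into the functor of a module extend.
-/

set_option autoImplicit false
universe u

open CategoryTheory Limits TensorProduct

noncomputable section

namespace AdeqLib

variable {A : Type u} [CommRing A]

/-- Every map out of a linearly adequate functor into `U M` is induced by a linear map. -/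
theorem exists_extend {P P' M : ModuleCat.{u + 1} A} [Module.Finite A P] [Module.Free A P]
    [Module.Finite A P'] [Module.Free A P'] (φ₀ : P ⟶ P') (f : kernel (uh φ₀) ⟶ U M) :
    ∃ g : P ⟶ M, kernel.ι (uh φ₀) ≫ uh g = f := by
  classical
  let bP := (Module.Free.chooseBasis A P).reindex (Fintype.equivFin _)
  let bP' := Module.Free.chooseBasis A P'
  let n := Fintype.card (Module.Free.ChooseBasisIndex A P)
  let J : Submodule A (Fin n → A) :=
    Submodule.span A (Set.range fun j => fun i => bP'.repr (φ₀.hom (bP i)) j)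
  let Q := (Fin n → A) ⧸ J
  let q : Fin n → Q := fun i => Submodule.Quotient.mk (Pi.single i 1)
  have hq : ∀ j, ∑ i, bP'.repr (φ₀.hom (bP i)) j • q i = 0 := fun j => by
    rw [show ∑ i, bP'.repr (φ₀.hom (bP i)) j • q i =
        J.mkQ (∑ i, bP'.repr (φ₀.hom (bP i)) j • Pi.single i 1) by simp [q, map_sum],
      Submodule.mkQ_apply, Submodule.Quotient.mk_eq_zero]
    rw [show (∑ i, bP'.repr (φ₀.hom (bP i)) j • (Pi.single i 1 : Fin n → A)) =
      fun i => bP'.repr (φ₀.hom (bP i)) j from (pi_eq_sum_univ' _).symm]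
    exact Submodule.subset_span ⟨j, rfl⟩
  let S : Adeq.Alg A := Adeq.algOf A (TrivSqZeroExt A Q)
  let xS : (TrivSqZeroExt A Q) ⊗[A] P := ∑ i, TrivSqZeroExt.inr (q i) ⊗ₜ[A] bP i
  have hxS : φ₀.hom.baseChange (TrivSqZeroExt A Q) xS = 0 := by
    simp only [xS, map_sum, LinearMap.baseChange_tmul]
    conv_lhs =>
      enter [2, i]
      rw [← bP'.sum_repr (φ₀.hom (bP i)), TensorProduct.tmul_sum]
      enter [2, j]
      rw [← TensorProduct.smul_tmul, ← TrivSqZeroExt.inr_smul]
    rw [Finset.sum_comm]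
    refine Finset.sum_eq_zero fun j _ => ?_
    rw [← TensorProduct.sum_tmul, ← TrivSqZeroExt.inr_sum, hq, TrivSqZeroExt.inr_zero, TensorProduct.zero_tmul]
  obtain ⟨yS, hyS⟩ := exists_kernel_lift (uh φ₀) S ((el P S).symm xS)
    ((ap_uh_eq_zero_iff φ₀ S _).2 (by rw [LinearEquiv.apply_symm_apply]; exact hxS))
  let sS : TrivSqZeroExt A Q →ₗ[A] Q := TrivSqZeroExt.sndHom A Q
  let η : Q ⊗[A] M := sS.rTensor M (el M S (ap f S yS))
  obtain ⟨η', hη'⟩ := LinearMap.rTensor_surjective M J.mkQ_surjective η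
  let gI : Fin n → M := fun i => TensorProduct.lid A M ((LinearMap.proj i).rTensor M η')
  let g : P →ₗ[A] M := bP.constr A gI
  refine ⟨ModuleCat.ofHom g, hom_ext fun B y => ?_⟩
  rw [ap_comp]
  apply (el M B).injective
  rw [el_uh]
  let β : Fin n → B := fun i => (bP.baseChange B).repr (el P B (ap (kernel.ι (uh φ₀)) B y)) i
  have hy : el P B (ap (kernel.ι (uh φ₀)) B y) = ∑ i, β i ⊗ₜ[A] bP i := by
    conv_lhs => rw [← (bP.baseChange B).sum_repr (el P B (ap (kernel.ι (uh φ₀)) B y))]
    exact Finset.sum_congr rfl fun i _ => by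
      rw [Module.Basis.baseChange_apply, TensorProduct.smul_tmul', smul_eq_mul, mul_one]
  let bl : (Fin n → A) →ₗ[A] B := Fintype.linearCombination A β
  have hJ : J ≤ LinearMap.ker bl := by
    refine Submodule.span_le.2 ?_
    rintro _ ⟨j, rfl⟩
    have h0 := kernel_condition_apply (uh φ₀) B y
    rw [ap_uh_eq_zero_iff, hy] at h0
    have h1 := congrArg (fun t => (bP'.baseChange B).repr t j) h0
    simpa [bl, Fintype.linearCombination_apply, map_sum, Module.Basis.baseChange_repr_tmul] using h1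
  let βQ : Q →ₗ[A] B := J.liftQ bl hJ
  have hβq : ∀ i, βQ (q i) = β i := fun i => by
    change bl (Pi.single i 1) = β i
    rw [Fintype.linearCombination_apply_single, one_smul]
  let D : Adeq.Alg A := Adeq.algOf A (TrivSqZeroExt B B)
  let sD : TrivSqZeroExt (B : Type u) B →ₗ[A] B := (TrivSqZeroExt.sndHom (B : Type u) B).restrictScalars A
  let gh : Q →ₗ[A] TrivSqZeroExt (B : Type u) B :=
    ((TrivSqZeroExt.inrHom (B : Type u) B).restrictScalars A) ∘ₗ βQ
  let hh : TrivSqZeroExt A Q →ₐ[A] TrivSqZeroExt (B : Type u) B :=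
    TrivSqZeroExt.lift (Algebra.ofId A _) gh (fun x z => TrivSqZeroExt.inr_mul_inr _ _ _)
      (fun r x => by rw [map_smul, Algebra.smul_def]; rfl)
      (fun r x => by rw [op_smul_eq_smul, map_smul, Algebra.smul_def, mul_comm]; rfl)
  have hhz : ∀ z : TrivSqZeroExt A Q, hh z =
      algebraMap A (TrivSqZeroExt (B : Type u) B) z.fst + gh z.snd :=
    fun z => TrivSqZeroExt.lift_def _ _ _ _ _ z
  have hinr : ∀ i, hh (TrivSqZeroExt.inr (q i)) = TrivSqZeroExt.inr (β i) := fun i => by
    change hh (TrivSqZeroExt.inr (q i)) = _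
    rw [hhz, TrivSqZeroExt.fst_inr, map_zero, zero_add, TrivSqZeroExt.snd_inr]
    change TrivSqZeroExt.inr (βQ (q i)) = _
    rw [hβq]
  let hS : S ⟶ D := CommAlgCat.ofHom hh
  let iB : B ⟶ D := CommAlgCat.ofHom (IsScalarTower.toAlgHom A (B : Type u) (TrivSqZeroExt (B : Type u) B))
  let ε : TrivSqZeroExt (B : Type u) B := TrivSqZeroExt.inr 1
  have hε : ∀ b : B, ε * algebraMap (B : Type u) (TrivSqZeroExt (B : Type u) B) b = TrivSqZeroExt.inr b :=
    fun b => by
      rw [TrivSqZeroExt.algebraMap_eq_inl, TrivSqZeroExt.inr_mul_inl, op_smul_eq_smul, smul_eq_mul, mul_one]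
  have hkey : tr (kernel (uh φ₀)) hS yS = (show (D : Type u) from ε) • tr (kernel (uh φ₀)) iB y := by
    refine kernel_ι_injective (uh φ₀) D ((el P D).injective ?_)
    rw [ap_tr, ap_smul, ap_tr, el_tr, map_smul, el_tr, hyS, LinearEquiv.apply_symm_apply, hy]
    change hh.toLinearMap.rTensor P xS = ε • (IsScalarTower.toAlgHom A (B : Type u)
      (TrivSqZeroExt (B : Type u) B)).toLinearMap.rTensor P (∑ i, β i ⊗ₜ[A] bP i)
    simp only [xS, map_sum, LinearMap.rTensor_tmul, AlgHom.toLinearMap_apply, hinr, Finset.smul_sum,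
      TensorProduct.smul_tmul', IsScalarTower.toAlgHom_apply, smul_eq_mul, hε]
  have h1 : el M D (ap f D (tr (kernel (uh φ₀)) hS yS)) =
      el M D (ap f D ((show (D : Type u) from ε) • tr (kernel (uh φ₀)) iB y)) := by rw [hkey]
  rw [ap_tr, ap_smul, ap_tr, map_smul, el_tr, el_tr] at h1
  have h2 := congrArg (sD.rTensor M) h1
  have hR : ∀ z : (B : Type u) ⊗[A] M, sD.rTensor M (ε • (IsScalarTower.toAlgHom A (B : Type u)
      (TrivSqZeroExt (B : Type u) B)).toLinearMap.rTensor M z) = z := by
    intro z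
    induction z using TensorProduct.induction_on with
    | zero => simp
    | tmul b m => simp [TensorProduct.smul_tmul', sD, hε]
    | add p r hp hr => rw [map_add, smul_add, map_add, hp, hr]
  have hL : ∀ z : (TrivSqZeroExt A Q) ⊗[A] M, sD.rTensor M (hh.toLinearMap.rTensor M z) =
      βQ.rTensor M (sS.rTensor M z) := by
    intro z
    have h3 : sD ∘ₗ hh.toLinearMap = βQ ∘ₗ sS := LinearMap.ext fun t => by
      induction t using TrivSqZeroExt.ind with
      | inl_add_inr r x =>
        simp only [LinearMap.comp_apply, AlgHom.toLinearMap_apply, map_add]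
        change sD (hh (TrivSqZeroExt.inl r)) + sD (hh (TrivSqZeroExt.inr x)) = _
        rw [hhz, hhz, TrivSqZeroExt.fst_inl, TrivSqZeroExt.snd_inl, TrivSqZeroExt.fst_inr, TrivSqZeroExt.snd_inr,
          map_zero, map_zero, add_zero, zero_add]
        change TrivSqZeroExt.snd (algebraMap A (TrivSqZeroExt (B : Type u) B) r) + TrivSqZeroExt.snd (TrivSqZeroExt.inr (βQ x) : TrivSqZeroExt (B : Type u) B) =
          βQ (TrivSqZeroExt.snd (TrivSqZeroExt.inl r : TrivSqZeroExt A Q)) + βQ (TrivSqZeroExt.snd (TrivSqZeroExt.inr x : TrivSqZeroExt A Q))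
        rw [TrivSqZeroExt.algebraMap_eq_inl', TrivSqZeroExt.snd_inl, TrivSqZeroExt.snd_inl, map_zero]
        rfl
    rw [← LinearMap.comp_apply, ← LinearMap.rTensor_comp, h3, LinearMap.rTensor_comp]
    rfl
  have h4 : sD.rTensor M (hh.toLinearMap.rTensor M (el M S (ap f S yS))) = el M B (ap f B y) :=
    h2.trans (hR _)
  rw [hL] at h4
  rw [← h4, hy]
  change g.baseChange B _ = βQ.rTensor M η
  rw [← hη', ← LinearMap.comp_apply (f := βQ.rTensor M), ← LinearMap.rTensor_comp,
    Submodule.liftQ_mkQ]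
  clear hη' h4 hR hL h2
  simp only [map_sum, LinearMap.baseChange_tmul, g, Module.Basis.constr_basis, gI]
  induction η' using TensorProduct.induction_on with
  | zero => simp
  | tmul c m =>
    simp only [LinearMap.rTensor_tmul, TensorProduct.lid_tmul, LinearMap.proj_apply, bl,
      Fintype.linearCombination_apply, TensorProduct.sum_tmul, ← TensorProduct.smul_tmul]
  | add p r hp hr => simp only [map_add, TensorProduct.tmul_add, Finset.sum_add_distrib, hp, hr]

end AdeqLib
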