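import Groth.Agent.AdeqLib.Base
import Mathlib.Algebra.DirectSum.Module
import Mathlib.LinearAlgebra.DirectSum.TensorProduct
import Mathlib.LinearAlgebra.TensorProduct.Prod

/-!
Kernels of direct sums of linear maps are direct sums of the kernels.
-/

set_option autoImplicit false
universe u

open CategoryTheory Limits TensorProduct
open scoped DirectSum

noncomputable section

namespace AdeqLib

variable {A : Type u} [CommRing A] {ι : Type (u + 1)} (P P' : ι → ModuleCat.{u + 1} A) (a : ∀ i, P i ⟶ P' i)

/-- The direct sum of a family of modules. -/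
abbrev dsum : ModuleCat.{u + 1} A := ModuleCat.of A (⨁ i, P i)

/-- The inclusion of a summand. -/
def din (i : ι) : P i ⟶ dsum P :=
  haveI := Classical.decEq ι
  ModuleCat.ofHom (DirectSum.lof A ι (fun i => P i) i)

/-- The projection on a summand. -/
def dproj (i : ι) : dsum P ⟶ P i := ModuleCat.ofHom (DirectSum.component A ι (fun i => P i) i)

/-- The sum of a family of maps. -/
def dmap : dsum P ⟶ dsum P' := ModuleCat.ofHom (DirectSum.lmap fun i => (a i).hom)

/-- The kernel of the sum of the maps. -/
abbrev dker : Adeq.MVF A := kernel (uh (dmap P P' a))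

theorem din_dmap (i : ι) : din P i ≫ dmap P P' a = a i ≫ din P' i := by
  classical
  ext : 1
  apply LinearMap.ext
  intro x
  change DirectSum.lmap (fun i => (a i).hom) (DirectSum.lof A ι (fun i => P i) i x) =
    DirectSum.lof A ι (fun i => P' i) i (a i x)
  rw [DirectSum.lmap_lof]

theorem dmap_dproj (i : ι) : dmap P P' a ≫ dproj P' i = dproj P i ≫ a i := by
  ext : 1
  apply LinearMap.ext
  intro x
  exact DirectSum.lmap_apply (fun i => (a i).hom) x i

/-- The inclusion of a summand of the kernel. -/
def kin (i : ι) : kernel (uh (a i)) ⟶ dker P P' a :=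
  kernel.map (uh (a i)) (uh (dmap P P' a)) (uh (din P i)) (uh (din P' i))
    (by rw [← Functor.map_comp, ← Functor.map_comp, din_dmap])

/-- The projection on a summand of the kernel. -/
def kproj (i : ι) : dker P P' a ⟶ kernel (uh (a i)) :=
  kernel.map (uh (dmap P P' a)) (uh (a i)) (uh (dproj P i)) (uh (dproj P' i))
    (by rw [← Functor.map_comp, ← Functor.map_comp, dmap_dproj])

theorem el_kin (i : ι) (B : Adeq.Alg A) (x : (kernel (uh (a i))).obj (Adeq.pt B)) :
    el _ B (ap (kernel.ι (uh (dmap P P' a))) B (ap (kin P P' a i) B x)) =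
      (din P i).hom.baseChange B (el _ B (ap (kernel.ι (uh (a i))) B x)) := by
  rw [← ap_comp, kin, kernel.map, kernel.lift_ι, ap_comp, el_uh]

theorem el_kproj (i : ι) (B : Adeq.Alg A) (x : (dker P P' a).obj (Adeq.pt B)) :
    el _ B (ap (kernel.ι (uh (a i))) B (ap (kproj P P' a i) B x)) =
      (dproj P i).hom.baseChange B (el _ B (ap (kernel.ι (uh (dmap P P' a))) B x)) := by
  rw [← ap_comp, kproj, kernel.map, kernel.lift_ι, ap_comp, el_uh]

theorem exists_support (B : Type u) [CommRing B] [Algebra A B] (z : B ⊗[A] (⨁ i, P i)) :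
    ∃ s : Finset ι, (∀ i, i ∉ s → (dproj P i).hom.baseChange B z = 0) ∧
      z = ∑ i ∈ s, (din P i).hom.baseChange B ((dproj P i).hom.baseChange B z) := by
  classical
  suffices h : ∃ s : Finset ι, ∀ t, s ⊆ t →
      (∀ i, i ∉ t → (dproj P i).hom.baseChange B z = 0) ∧
      z = ∑ i ∈ t, (din P i).hom.baseChange B ((dproj P i).hom.baseChange B z) by
    obtain ⟨s, hs⟩ := h
    exact ⟨s, hs s subset_rfl⟩
  induction z using TensorProduct.induction_on with
  | zero => exact ⟨∅, fun t _ => ⟨fun i _ => map_zero _, by simp⟩⟩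
  | tmul b x =>
    refine ⟨DFinsupp.support x, fun t ht => ⟨fun i hi => ?_, ?_⟩⟩
    · have : x i = 0 := DFinsupp.notMem_support_iff.1 (fun h => hi (ht h))
      change b ⊗ₜ[A] (x i) = 0
      rw [this, TensorProduct.tmul_zero]
    · change b ⊗ₜ[A] x = ∑ i ∈ t, b ⊗ₜ[A] DirectSum.lof A ι (fun i => P i) i (x i)
      rw [← TensorProduct.tmul_sum]
      congr 1
      refine DFinsupp.ext fun j => ?_
      simp only [DirectSum.lof_eq_of]
      by_cases hj : j ∈ t
      · rw [DFinsupp.finsetSum_apply, Finset.sum_eq_single j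
          (fun i _ hij => DirectSum.of_eq_of_ne (β := fun i => (P i : Type (u + 1))) i j _ (by exact Ne.symm hij)) (fun h => absurd hj h)]
        exact (DirectSum.of_eq_same (β := fun i => (P i : Type (u + 1))) j _).symm
      · rw [DFinsupp.finsetSum_apply, Finset.sum_eq_zero
          (fun i hi => DirectSum.of_eq_of_ne (β := fun i => (P i : Type (u + 1))) i j _ (by rintro rfl; exact hj hi))]
        exact DFinsupp.notMem_support_iff.1 (fun h => hj (ht h))
  | add z w hz hw =>
    obtain ⟨s, hs⟩ := hz
    obtain ⟨s', hs'⟩ := hw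
    refine ⟨s ∪ s', fun t ht => ?_⟩
    obtain ⟨h1, h2⟩ := hs t (Finset.union_subset_left ht)
    obtain ⟨h1', h2'⟩ := hs' t (Finset.union_subset_right ht)
    refine ⟨fun i hi => by rw [map_add, h1 i hi, h1' i hi, add_zero], ?_⟩
    simp only [map_add, Finset.sum_add_distrib]
    rw [← h2, ← h2']

theorem exists_decomp (B : Adeq.Alg A) (x : (dker P P' a).obj (Adeq.pt B)) :
    ∃ s : Finset ι, (∀ i, i ∉ s → ap (kproj P P' a i) B x = 0) ∧
      x = ∑ i ∈ s, ap (kin P P' a i) B (ap (kproj P P' a i) B x) := by
  obtain ⟨s, h1, h2⟩ := exists_support P B (el _ B (ap (kernel.ι (uh (dmap P P' a))) B x))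
  refine ⟨s, fun i hi => kernel_ι_injective _ B ((el _ B).injective ?_), ?_⟩
  · rw [el_kproj, map_zero, map_zero, h1 i hi]
  · refine kernel_ι_injective _ B ((el _ B).injective ?_)
    rw [map_sum, map_sum]
    refine h2.trans (Finset.sum_congr rfl fun i _ => ?_)
    refine Eq.symm ((el_kin P P' a i B _).trans ?_)
    exact congrArg ((din P i).hom.baseChange B) (el_kproj P P' a i B x)

theorem dker_hom_ext {T : Adeq.MVF A} {f g : dker P P' a ⟶ T}
    (h : ∀ i, kin P P' a i ≫ f = kin P P' a i ≫ g) : f = g :=
  hom_ext fun B x => by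
    obtain ⟨s, -, hx⟩ := exists_decomp P P' a B x
    rw [hx, map_sum, map_sum]
    refine Finset.sum_congr rfl fun i _ => ?_
    exact congrArg (fun k => ap k B (ap (kproj P P' a i) B x)) (h i)

variable {P P' a} {T : Adeq.MVF A} (f : ∀ i, kernel (uh (a i)) ⟶ T)

/-- The value of the map out of the kernel of a sum. -/
def descVal (B : Adeq.Alg A) (x : (dker P P' a).obj (Adeq.pt B)) : T.obj (Adeq.pt B) :=
  ∑ᶠ i, ap (f i) B (ap (kproj P P' a i) B x)

theorem finite_support_descVal (B : Adeq.Alg A) (x : (dker P P' a).obj (Adeq.pt B)) :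
    (Function.support fun i => ap (f i) B (ap (kproj P P' a i) B x)).Finite := by
  obtain ⟨s, hs, -⟩ := exists_decomp P P' a B x
  refine s.finite_toSet.subset fun i hi => ?_
  by_contra h
  exact hi (show ap (f i) B (ap (kproj P P' a i) B x) = 0 by rw [hs i h, map_zero])

theorem descVal_add (B : Adeq.Alg A) (x y : (dker P P' a).obj (Adeq.pt B)) :
    descVal f B (x + y) = descVal f B x + descVal f B y := by
  simp only [descVal, map_add]
  exact finsum_add_distrib (finite_support_descVal f B x) (finite_support_descVal f B y)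

theorem descVal_smul (B : Adeq.Alg A) (b : B) (x : (dker P P' a).obj (Adeq.pt B)) :
    descVal f B (b • x) = b • descVal f B x := by
  simp only [descVal, ap_smul]
  exact (map_finsum (DistribSMul.toAddMonoidHom (T.obj (Adeq.pt B)) b) (finite_support_descVal f B x)).symm

theorem descVal_tr {B B' : Adeq.Alg A} (h : B ⟶ B') (x : (dker P P' a).obj (Adeq.pt B)) :
    descVal f B' (tr _ h x) = tr T h (descVal f B x) := by
  simp only [descVal, ap_tr]
  exact (map_finsum (tr T h) (finite_support_descVal f B x)).symm

/-- The map out of the kernel of a sum given by maps out of the kernels. -/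
def descK : dker P P' a ⟶ T where
  app X := ModuleCat.ofHom
    { toFun := descVal f X.unop.unop
      map_add' := descVal_add f X.unop.unop
      map_smul' := descVal_smul f X.unop.unop }
  naturality {X Y} g := by
    ext x
    exact descVal_tr f g.unop.unop x

theorem kin_descK (j : ι) : kin P P' a j ≫ descK f = f j := by
  classical
  refine hom_ext fun B x => ?_
  rw [ap_comp]
  change descVal f B (ap (kin P P' a j) B x) = _
  have hp : ∀ i, (dproj P i).hom ∘ₗ (din P j).hom = if h : i = j then h ▸ LinearMap.id else 0 := by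
    intro i
    apply LinearMap.ext
    intro y
    change (DirectSum.lof A ι (fun i => P i) j y) i = _
    split
    · rename_i h
      subst h
      simp [DirectSum.lof_eq_of]
    · rename_i h
      exact DFinsupp.single_eq_of_ne h
  have key : ∀ i, ap (kproj P P' a i) B (ap (kin P P' a j) B x) = if h : i = j then h ▸ x else 0 := by
    intro i
    refine kernel_ι_injective _ B ((el _ B).injective ?_)
    rw [el_kproj, el_kin, ← LinearMap.comp_apply, ← LinearMap.baseChange_comp, hp]
    split
    · rename_i h
      subst h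
      rw [LinearMap.baseChange_id, LinearMap.id_apply]
    · rw [LinearMap.baseChange_zero, LinearMap.zero_apply, map_zero, map_zero]
  rw [descVal, finsum_eq_single _ j fun i hi => by rw [key, dif_neg hi, map_zero], key, dif_pos rfl]

variable (P P' a)

/-- The kernel of a sum is the coproduct of the kernels. -/
def isColimitKin : IsColimit (Cofan.mk (dker P P' a) (kin P P' a)) :=
  Cofan.IsColimit.mk _ (fun s => descK fun i => s.inj i) (fun s j => kin_descK _ j)
    (fun s m hm => dker_hom_ext P P' a fun i => (hm i).trans (kin_descK _ i).symm)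

theorem adequate_dker : Adeq.adequate A (dker P P' a) := ⟨_, _, dmap P P' a, ⟨Iso.refl _⟩⟩

end AdeqLib
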