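import Groth.Agent.AdeqLib.Squares
import Groth.Agent.AdeqLib.Extend
import Groth.Agent.AdeqLib.Sums

/-!
Kernels and cokernels of maps of adequate functors are adequate.
-/

set_option autoImplicit false
universe u

open CategoryTheory Limits TensorProduct

set_option maxHeartbeats 800000

noncomputable section

namespace AdeqLib

variable {A : Type u} [CommRing A]

/-- The kernel of a linear map, into whose target functors of modules maps extend. -/
structure Cover (A : Type u) [CommRing A] where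
  /-- The index of the summands. -/
  idx : Type (u + 1)
  /-- The first rank. -/
  n : idx → ℕ
  /-- The second rank. -/
  m : idx → ℕ
  /-- The maps of the summands. -/
  a : ∀ i, fr A (n i) ⟶ fr A (m i)

namespace Cover

variable (c : Cover A)

/-- The source of the presentation. -/
abbrev P : ModuleCat.{u + 1} A := dsum fun i => fr A (c.n i)

/-- The target of the presentation. -/
abbrev P' : ModuleCat.{u + 1} A := dsum fun i => fr A (c.m i)

/-- The linear map. -/
abbrev map : c.P ⟶ c.P' := dmap _ _ c.a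

/-- The functor of the cover. -/
abbrev K : Adeq.MVF A := kernel (uh c.map)

theorem linAdequate (i : c.idx) : Adeq.linAdequate A (kernel (uh (c.a i))) :=
  ⟨_, _, c.a i, inferInstance, inferInstance, inferInstance, inferInstance, ⟨Iso.refl _⟩⟩

theorem extend {M : ModuleCat.{u + 1} A} (f : c.K ⟶ U M) : ∃ g : c.P ⟶ M, kernel.ι (uh c.map) ≫ uh g = f := by
  classical
  choose g hg using fun i => exists_extend (c.a i) (kin _ _ c.a i ≫ f)
  refine ⟨ModuleCat.ofHom (DirectSum.toModule A c.idx M fun i => (g i).hom), dker_hom_ext _ _ c.a fun i => ?_⟩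
  rw [← hg i, ← Category.assoc, kin, kernel.map, kernel.lift_ι, Category.assoc, ← Functor.map_comp]
  congr 2
  ext : 1
  apply LinearMap.ext
  intro x
  exact DirectSum.toModule_lof (M := fun i => (fr A (c.n i) : Type (u + 1))) (φ := fun i => (g i).hom) A i x

end Cover

/-- Every adequate functor is covered. -/
theorem exists_cover {F : Adeq.MVF A} (hF : Adeq.adequate A F) : ∃ (c : Cover A) (π : c.K ⟶ F), Epi π := by
  obtain ⟨M, N, φ, ⟨e⟩⟩ := hF
  let c : Cover A := ⟨Sq φ, fun q => q.n, fun q => q.m, fun q => q.a⟩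
  let f : ∀ q : c.idx, kernel (uh (c.a q)) ⟶ F := fun q =>
    kernel.map (uh q.a) (uh φ) (uh q.g) (uh q.h)
      (by rw [← Functor.map_comp, ← Functor.map_comp, q.w]) ≫ e.inv
  refine ⟨c, descK f, (epi_iff _).2 fun B y => ?_⟩
  obtain ⟨q, z, hz, hzy⟩ := exists_sq φ B (el M B (ap (kernel.ι (uh φ)) B (ap e.hom B y)))
    ((ap_uh_eq_zero_iff φ B _).1 (kernel_condition_apply _ B _))
  obtain ⟨w, hw⟩ := exists_kernel_lift (uh q.a) B ((el _ B).symm z)
    ((ap_uh_eq_zero_iff _ B _).2 (by rw [LinearEquiv.apply_symm_apply]; exact hz))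
  refine ⟨ap (kin _ _ c.a q) B w, ?_⟩
  rw [← ap_comp, kin_descK, ap_comp]
  have h : ap (kernel.map (uh q.a) (uh φ) (uh q.g) (uh q.h)
      (by rw [← Functor.map_comp, ← Functor.map_comp, q.w])) B w = ap e.hom B y := by
    refine kernel_ι_injective _ B ((el M B).injective ?_)
    rw [← ap_comp, kernel.map, kernel.lift_ι, ap_comp, el_uh, hw, LinearEquiv.apply_symm_apply, hzy]
  rw [h, ← ap_comp, e.hom_inv_id]
  rfl

/-- The pair of two linear maps into a product. -/
def pair {P X Y : ModuleCat.{u + 1} A} (f : P ⟶ X) (g : P ⟶ Y) : P ⟶ ModuleCat.of A (X × Y) :=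
  ModuleCat.ofHom (LinearMap.prod f.hom g.hom)

theorem pair_eq_zero_iff {P X Y : ModuleCat.{u + 1} A} (f : P ⟶ X) (g : P ⟶ Y) (B : Type u) [CommRing B]
    [Algebra A B] (z : B ⊗[A] P) :
    (pair f g).hom.baseChange B z = 0 ↔ f.hom.baseChange B z = 0 ∧ g.hom.baseChange B z = 0 := by
  have h : ∀ z : B ⊗[A] P, TensorProduct.prodRight A B B X Y ((pair f g).hom.baseChange B z) =
      (f.hom.baseChange B z, g.hom.baseChange B z) := by
    intro z
    induction z using TensorProduct.induction_on with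
    | zero => simp only [map_zero, Prod.zero_eq_mk]
    | tmul b x => simp [pair]
    | add z w hz hw => simp only [map_add, hz, hw, Prod.mk_add_mk]
  rw [← (TensorProduct.prodRight A B B X Y).map_eq_zero_iff, h, Prod.mk_eq_zero]

/-- The kernel of the restriction of a map of modules to a kernel is adequate. -/
theorem adequate_kernel_restrict {P P' M : ModuleCat.{u + 1} A} (φ : P ⟶ P') (g : P ⟶ M) :
    Adeq.adequate A (kernel (kernel.ι (uh φ) ≫ uh g)) := by
  let ι₀ := kernel.ι (uh φ)
  let ι₁ := kernel.ι (ι₀ ≫ uh g)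
  refine adequate_of_embedding (ι₁ ≫ ι₀) (pair φ g)
    (fun B => (kernel_ι_injective (uh φ) B).comp (kernel_ι_injective (ι₀ ≫ uh g) B))
    (fun B x => (ap_uh_eq_zero_iff (pair φ g) B _).2 ((pair_eq_zero_iff φ g B _).2 ⟨?_, ?_⟩))
    (fun B x hx => ?_)
  · exact (ap_uh_eq_zero_iff φ B _).1 (kernel_condition_apply (uh φ) B (ap ι₁ B x))
  · exact (ap_uh_eq_zero_iff g B _).1 (kernel_condition_apply (ι₀ ≫ uh g) B x)
  · obtain ⟨h1, h2⟩ := (pair_eq_zero_iff φ g B _).1 ((ap_uh_eq_zero_iff (pair φ g) B x).1 hx)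
    obtain ⟨y, hy⟩ := exists_kernel_lift (uh φ) B x ((ap_uh_eq_zero_iff φ B x).2 h1)
    obtain ⟨z, hz⟩ := exists_kernel_lift (ι₀ ≫ uh g) B y
      ((congrArg (ap (uh g) B) hy).trans ((ap_uh_eq_zero_iff g B x).2 h2))
    exact ⟨z, (congrArg (ap ι₀ B) hz).trans hy⟩

/-- The cokernel of a map from a cover into an adequate functor is adequate. -/
theorem adequate_cokernel_cover (c : Cover A) {G : Adeq.MVF A} (π : c.K ⟶ G) (hG : Adeq.adequate A G) :
    Adeq.adequate A (cokernel π) := by
  obtain ⟨M, N, ιG, ψ, hinj, hzero, hex⟩ := exists_embedding hG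
  obtain ⟨g, hg⟩ := c.extend (π ≫ ιG)
  let R : Submodule A (M × c.P') := LinearMap.range (LinearMap.prod g.hom c.map.hom)
  let M' : ModuleCat.{u + 1} A := ModuleCat.of A ((M × c.P') ⧸ R)
  let cM : M ⟶ M' := ModuleCat.ofHom (R.mkQ ∘ₗ LinearMap.inl A M c.P')
  let cP : c.P' ⟶ M' := ModuleCat.ofHom (R.mkQ ∘ₗ LinearMap.inr A M c.P')
  let T : Submodule A (N × c.P') := LinearMap.range (LinearMap.prod (ψ.hom ∘ₗ g.hom) c.map.hom)
  let N' : ModuleCat.{u + 1} A := ModuleCat.of A ((N × c.P') ⧸ T)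
  let M'' : ModuleCat.{u + 1} A := ModuleCat.of A (((M × c.P') ⧸ R) ⧸ LinearMap.range cM.hom)
  let ψ' : M' ⟶ N' := ModuleCat.ofHom (R.mapQ T (LinearMap.prodMap ψ.hom LinearMap.id)
    (by rintro _ ⟨p, rfl⟩; exact ⟨p, rfl⟩))
  let d : M' ⟶ M'' := ModuleCat.ofHom (LinearMap.range cM.hom).mkQ
  have hgc : g ≫ cM = -(c.map ≫ cP) := by
    ext : 1
    apply LinearMap.ext
    intro p
    change R.mkQ (g.hom p, 0) = -R.mkQ (0, c.map.hom p)
    rw [← map_neg, Submodule.mkQ_apply, Submodule.mkQ_apply, Submodule.Quotient.eq]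
    exact ⟨p, by simp⟩
  have hπ : π ≫ ιG ≫ uh cM = 0 := by
    rw [← Category.assoc, ← hg, Category.assoc, ← Functor.map_comp, hgc, Functor.map_neg, Preadditive.comp_neg,
      Functor.map_comp, ← Category.assoc, kernel.condition, zero_comp, neg_zero]
  have hepi : ∀ B, Function.Surjective (ap (cokernel.π π) B) := (epi_iff _).1 inferInstance
  have hker : ∀ (B : Adeq.Alg A) (m : (B : Type u) ⊗[A] M), cM.hom.baseChange B m = 0 →
      ∃ p : (B : Type u) ⊗[A] c.P, g.hom.baseChange B p = m ∧ c.map.hom.baseChange B p = 0 := by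
    intro B m hm
    have he : Function.Exact (LinearMap.prod g.hom c.map.hom) R.mkQ :=
      LinearMap.exact_iff.2 (Submodule.ker_mkQ R)
    obtain ⟨p, hp⟩ := (lTensor_exact (R := A) (M := c.P) (N := M × c.P') (P := (M × c.P') ⧸ R) (B : Type u) he
      R.mkQ_surjective ((LinearMap.inl A M c.P').lTensor (B : Type u) m)).1 (by
        rw [← LinearMap.comp_apply, ← LinearMap.lTensor_comp]
        exact hm)
    refine ⟨p, ?_, ?_⟩
    · have h1 := congrArg ((LinearMap.fst A M c.P').lTensor (B : Type u)) hp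
      rw [← LinearMap.comp_apply, ← LinearMap.comp_apply, ← LinearMap.lTensor_comp, ← LinearMap.lTensor_comp,
        LinearMap.fst_prod, LinearMap.fst_comp_inl, LinearMap.lTensor_id] at h1
      exact h1
    · have h1 := congrArg ((LinearMap.snd A M c.P').lTensor (B : Type u)) hp
      rw [← LinearMap.comp_apply, ← LinearMap.comp_apply, ← LinearMap.lTensor_comp, ← LinearMap.lTensor_comp,
        LinearMap.snd_prod, LinearMap.snd_comp_inl, LinearMap.lTensor_zero] at h1
      exact h1
  refine adequate_of_embedding (cokernel.desc π (ιG ≫ uh cM) hπ) (pair d ψ')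
    (fun B => ?_) (fun B x => ?_) (fun B z hz => ?_)
  · refine (injective_iff_map_eq_zero _).2 fun y hy => ?_
    obtain ⟨y, rfl⟩ := hepi B y
    rw [← ap_comp, cokernel.π_desc, ap_comp, ap_uh_eq_zero_iff] at hy
    obtain ⟨p, hp1, hp2⟩ := hker B _ hy
    obtain ⟨w, hw⟩ := exists_kernel_lift (uh c.map) B ((el _ B).symm p)
      ((ap_uh_eq_zero_iff _ B _).2 (by rw [LinearEquiv.apply_symm_apply]; exact hp2))
    have h1 : y = ap π B w := hinj B ((el M B).injective (by
      rw [← ap_comp π, ← hg, ap_comp, el_uh, hw, LinearEquiv.apply_symm_apply, hp1]))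
    rw [h1, ← ap_comp, cokernel.condition, ap_zero]
  · obtain ⟨y, rfl⟩ := hepi B x
    rw [← ap_comp (cokernel.π π), cokernel.π_desc, ap_comp, ap_uh_eq_zero_iff, pair_eq_zero_iff, el_uh,
      ← LinearMap.comp_apply, ← LinearMap.comp_apply, ← LinearMap.baseChange_comp, ← LinearMap.baseChange_comp]
    refine ⟨?_, ?_⟩
    · rw [show d.hom ∘ₗ cM.hom = 0 from LinearMap.range_mkQ_comp _, LinearMap.baseChange_zero]
      rfl
    · rw [show ψ'.hom ∘ₗ cM.hom = (T.mkQ ∘ₗ LinearMap.inl A N c.P') ∘ₗ ψ.hom from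
          LinearMap.ext fun m => rfl,
        LinearMap.baseChange_comp, LinearMap.comp_apply, (ap_uh_eq_zero_iff ψ B _).1 (hzero B y), map_zero]
  · rw [ap_uh_eq_zero_iff, pair_eq_zero_iff] at hz
    have hd : Function.Exact cM.hom d.hom := LinearMap.exact_iff.2 (Submodule.ker_mkQ _)
    obtain ⟨m, hm⟩ := (lTensor_exact (R := A) (M := M) (N := M') (P := M'') (B : Type u) hd
      (Submodule.mkQ_surjective _) (el M' B z)).1 hz.1
    change cM.hom.baseChange B m = _ at hm
    have h2 := hz.2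
    rw [← hm, ← LinearMap.comp_apply, ← LinearMap.baseChange_comp,
      show ψ'.hom ∘ₗ cM.hom = T.mkQ ∘ₗ (LinearMap.inl A N c.P' ∘ₗ ψ.hom) from
        LinearMap.ext fun m => rfl] at h2
    have he : Function.Exact (LinearMap.prod (ψ.hom ∘ₗ g.hom) c.map.hom) T.mkQ :=
      LinearMap.exact_iff.2 (Submodule.ker_mkQ T)
    obtain ⟨p, hp⟩ := (lTensor_exact (R := A) (M := c.P) (N := N × c.P') (P := (N × c.P') ⧸ T) (B : Type u) he
      T.mkQ_surjective ((LinearMap.inl A N c.P' ∘ₗ ψ.hom).lTensor (B : Type u) m)).1 (by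
        rw [← LinearMap.comp_apply, ← LinearMap.lTensor_comp]
        exact h2)
    have hp2 : c.map.hom.baseChange B p = 0 := by
      have h1 := congrArg ((LinearMap.snd A N c.P').lTensor (B : Type u)) hp
      rw [← LinearMap.comp_apply, ← LinearMap.comp_apply, ← LinearMap.lTensor_comp, ← LinearMap.lTensor_comp,
        LinearMap.snd_prod, ← LinearMap.comp_assoc, LinearMap.snd_comp_inl, LinearMap.zero_comp,
        LinearMap.lTensor_zero] at h1
      exact h1
    have hp1 : ψ.hom.baseChange B (g.hom.baseChange B p) = ψ.hom.baseChange B m := by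
      have h1 := congrArg ((LinearMap.fst A N c.P').lTensor (B : Type u)) hp
      rw [← LinearMap.comp_apply, ← LinearMap.comp_apply, ← LinearMap.lTensor_comp, ← LinearMap.lTensor_comp,
        LinearMap.fst_prod, ← LinearMap.comp_assoc, LinearMap.fst_comp_inl, LinearMap.id_comp] at h1
      rw [← LinearMap.comp_apply, ← LinearMap.baseChange_comp]
      exact h1
    obtain ⟨w, hw⟩ := exists_kernel_lift (uh c.map) B ((el _ B).symm p)
      ((ap_uh_eq_zero_iff _ B _).2 (by rw [LinearEquiv.apply_symm_apply]; exact hp2))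
    have hgp : g.hom.baseChange B p = el M B (ap ιG B (ap π B w)) := by
      rw [← ap_comp π, ← hg, ap_comp, el_uh, hw, LinearEquiv.apply_symm_apply]
    have hψm : ap (uh ψ) B ((el M B).symm m) = 0 := by
      rw [ap_uh_eq_zero_iff, LinearEquiv.apply_symm_apply, ← hp1, hgp, ← ap_uh_eq_zero_iff, hzero]
    obtain ⟨y, hy⟩ := hex B _ hψm
    refine ⟨ap (cokernel.π π) B y, (el M' B).injective ?_⟩
    rw [← ap_comp (cokernel.π π), cokernel.π_desc, ap_comp, el_uh, hy, LinearEquiv.apply_symm_apply, hm]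

/-- The cokernel of a map of adequate functors is adequate. -/
theorem adequate_cokernel {F G : Adeq.MVF A} (f : F ⟶ G) (hF : Adeq.adequate A F) (hG : Adeq.adequate A G) :
    Adeq.adequate A (cokernel f) := by
  obtain ⟨c, π, hπ⟩ := exists_cover hF
  exact (Adeq.adequate A).prop_of_iso (cokernelEpiComp π f) (adequate_cokernel_cover c (π ≫ f) hG)

/-- The kernel of a map out of a covered functor. -/
theorem adequate_kernel_of_epi {K F G : Adeq.MVF A} (π : K ⟶ F) [hπ : Epi π] (f : F ⟶ G)
    (h0 : Adeq.adequate A (kernel π)) (h1 : Adeq.adequate A (kernel (π ≫ f))) :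
    Adeq.adequate A (kernel f) := by
  let j : kernel π ⟶ kernel (π ≫ f) := kernel.lift _ (kernel.ι π) (by rw [kernel.condition_assoc, zero_comp])
  let q : kernel (π ≫ f) ⟶ kernel f := kernel.lift f (kernel.ι (π ≫ f) ≫ π) (by rw [Category.assoc, kernel.condition])
  have hjq : j ≫ q = 0 := by
    rw [← cancel_mono (kernel.ι f), Category.assoc, kernel.lift_ι, ← Category.assoc, kernel.lift_ι,
      kernel.condition, zero_comp]
  have hiso : IsIso (cokernel.desc j q hjq) := by
    refine isIso_of_bijective _ fun B => ⟨(injective_iff_map_eq_zero _).2 fun y hy => ?_, fun y => ?_⟩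
    · obtain ⟨y, rfl⟩ := (epi_iff (cokernel.π j)).1 inferInstance B y
      rw [← ap_comp, cokernel.π_desc] at hy
      have h2 : ap π B (ap (kernel.ι (π ≫ f)) B y) = 0 := by
        rw [← ap_comp, ← kernel.lift_ι f (kernel.ι (π ≫ f) ≫ π) (by rw [Category.assoc, kernel.condition]), ap_comp]
        change ap (kernel.ι f) B (ap q B y) = 0
        rw [hy, map_zero]
      obtain ⟨w, hw⟩ := exists_kernel_lift π B _ h2
      have h3 : y = ap j B w := kernel_ι_injective _ B (by rw [← ap_comp j, kernel.lift_ι, hw])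
      rw [h3, ← ap_comp, cokernel.condition, ap_zero]
    · obtain ⟨x, hx⟩ := (epi_iff π).1 hπ B (ap (kernel.ι f) B y)
      obtain ⟨w, hw⟩ := exists_kernel_lift (π ≫ f) B x (by rw [ap_comp, hx, kernel_condition_apply])
      refine ⟨ap (cokernel.π j) B w, kernel_ι_injective _ B ?_⟩
      rw [← ap_comp (cokernel.π j), cokernel.π_desc, ← ap_comp q, kernel.lift_ι, ap_comp, hw, hx]
  exact (Adeq.adequate A).prop_of_iso (asIso (cokernel.desc j q hjq)) (adequate_cokernel j h0 h1)


/-- The kernel of a map of adequate functors is adequate. -/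
theorem adequate_kernel {F G : Adeq.MVF A} (f : F ⟶ G) (hF : Adeq.adequate A F) (hG : Adeq.adequate A G) :
    Adeq.adequate A (kernel f) := by
  obtain ⟨c, π, hπ⟩ := exists_cover hF
  obtain ⟨M, N, ιG, ψ, hinj, -, -⟩ := exists_embedding hG
  obtain ⟨M₀, N₀, ιF, ψ₀, hinjF, -, -⟩ := exists_embedding hF
  obtain ⟨g, hg⟩ := c.extend (π ≫ f ≫ ιG)
  obtain ⟨g₀, hg₀⟩ := c.extend (π ≫ ιF)
  have hmG : Mono ιG := (mono_iff _).2 hinj
  have hmF : Mono ιF := (mono_iff _).2 hinjF
  exact adequate_kernel_of_epi π f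
    ((Adeq.adequate A).prop_of_iso (kernelIsoOfEq hg₀ ≪≫ kernelCompMono π ιF) (adequate_kernel_restrict c.map g₀))
    ((Adeq.adequate A).prop_of_iso (kernelIsoOfEq (hg.trans (Category.assoc _ _ _).symm) ≪≫ kernelCompMono (π ≫ f) ιG)
      (adequate_kernel_restrict c.map g))

/-- Every adequate functor receives a surjection from a coproduct of linearly adequate functors. -/
theorem exists_epi_cofan {F : Adeq.MVF A} (hF : Adeq.adequate A F) :
    ∃ (ι : Type (u + 1)) (L : ι → Adeq.MVF A), (∀ i, Adeq.linAdequate A (L i)) ∧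
      ∃ (c : Cofan L) (_ : IsColimit c) (π : c.pt ⟶ F), Epi π := by
  obtain ⟨c, π, hπ⟩ := exists_cover hF
  exact ⟨c.idx, _, c.linAdequate, _, isColimitKin _ _ c.a, π, hπ⟩

end AdeqLib
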