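import Groth.Agent.AdeqLib.Descent
import Mathlib.RingTheory.Flat.FaithfullyFlat.Algebra

/-!
Faithfully flat descent for the values of adequate functors.
-/

set_option autoImplicit false
universe u

open CategoryTheory Limits TensorProduct

noncomputable section

namespace AdeqLib

variable {A : Type u} [CommRing A] (B : Type u) [CommRing B] [Algebra A B] [Module.FaithfullyFlat A B]

theorem mk_one_injective (Q : Type (u + 1)) [AddCommGroup Q] [Module A Q] :
    Function.Injective fun q : Q => (1 : B) ⊗ₜ[A] q := by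
  exact Module.FaithfullyFlat.tensorProduct_mk_injective (A := A) (B := B) Q

theorem descent_module (M : Type (u + 1)) [AddCommGroup M] [Module A M] (x : B ⊗[A] M)
    (h : (Algebra.TensorProduct.includeLeft : B →ₐ[A] B ⊗[A] B).toLinearMap.rTensor M x =
      (Algebra.TensorProduct.includeRight : B →ₐ[A] B ⊗[A] B).toLinearMap.rTensor M x) :
    ∃ m : M, (1 : B) ⊗ₜ[A] m = x := by
  let V : Submodule A (B ⊗[A] M) := LinearMap.range (TensorProduct.mk A B M 1)
  let μ : (B ⊗[A] B) ⊗[A] M →ₗ[A] B ⊗[A] ((B ⊗[A] M) ⧸ V) :=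
    V.mkQ.lTensor B ∘ₗ (TensorProduct.assoc A B B M).toLinearMap
  have h1 : ∀ z : B ⊗[A] M, μ ((Algebra.TensorProduct.includeLeft : B →ₐ[A] B ⊗[A] B).toLinearMap.rTensor M z) = 0 := by
    intro z
    induction z using TensorProduct.induction_on with
    | zero => simp
    | tmul b m =>
      have : V.mkQ ((1 : B) ⊗ₜ[A] m) = 0 := (Submodule.Quotient.mk_eq_zero V).2 ⟨m, rfl⟩
      simp [μ, this, -Submodule.mkQ_apply]
    | add z w hz hw => simp only [map_add, hz, hw, add_zero]
  have h2 : ∀ z : B ⊗[A] M, μ ((Algebra.TensorProduct.includeRight : B →ₐ[A] B ⊗[A] B).toLinearMap.rTensor M z) =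
      (1 : B) ⊗ₜ[A] V.mkQ z := by
    intro z
    induction z using TensorProduct.induction_on with
    | zero => simp
    | tmul b m => simp [μ]
    | add z w hz hw => simp only [map_add, hz, hw, TensorProduct.tmul_add]
  have h3 : (1 : B) ⊗ₜ[A] V.mkQ x = 0 := by rw [← h2, ← h, h1]
  exact (Submodule.Quotient.mk_eq_zero V).1
    (mk_one_injective B _ (h3.trans (TensorProduct.tmul_zero _ _).symm))

/-- The structure map. -/
abbrev unitHom : Adeq.algOf A A ⟶ Adeq.algOf A B := CommAlgCat.ofHom (Algebra.ofId A B)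

/-- The first coface. -/
abbrev inl₂ : Adeq.algOf A B ⟶ Adeq.algOf A (B ⊗[A] B) :=
  CommAlgCat.ofHom (Algebra.TensorProduct.includeLeft : B →ₐ[A] B ⊗[A] B)

/-- The second coface. -/
abbrev inr₂ : Adeq.algOf A B ⟶ Adeq.algOf A (B ⊗[A] B) :=
  CommAlgCat.ofHom (Algebra.TensorProduct.includeRight : B →ₐ[A] B ⊗[A] B)

omit [Module.FaithfullyFlat A B] in
theorem el_unitHom (M : ModuleCat.{u + 1} A) (x : (U M).obj (Adeq.pt (Adeq.algOf A A))) :
    el M (Adeq.algOf A B) (tr (U M) (unitHom B) x) = (1 : B) ⊗ₜ[A] TensorProduct.lid A M (el M (Adeq.algOf A A) x) := by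
  rw [el_tr]
  generalize el M (Adeq.algOf A A) x = z
  induction z using TensorProduct.induction_on with
  | zero => simp
  | tmul a m =>
    rw [LinearMap.rTensor_tmul]
    change algebraMap A B a ⊗ₜ[A] m = (1 : B) ⊗ₜ[A] (a • m)
    rw [Algebra.algebraMap_eq_smul_one, TensorProduct.smul_tmul]
  | add z w hz hw => simp only [map_add, hz, hw, TensorProduct.tmul_add]

theorem injective_tr_U (M : ModuleCat.{u + 1} A) : Function.Injective (tr (U M) (unitHom B)) := fun x y h => by
  refine (el M (Adeq.algOf A A)).injective ((TensorProduct.lid A M).injective ?_)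
  refine mk_one_injective (A := A) B M ?_
  dsimp only
  rw [← el_unitHom, ← el_unitHom, h]

theorem descent_U (M : ModuleCat.{u + 1} A) (y : (U M).obj (Adeq.pt (Adeq.algOf A B)))
    (h : tr (U M) (inl₂ B) y = tr (U M) (inr₂ B) y) : ∃ x, tr (U M) (unitHom B) x = y := by
  have h' := congrArg (el M (Adeq.algOf A (B ⊗[A] B))) h
  rw [el_tr, el_tr] at h'
  obtain ⟨m, hm⟩ := descent_module B M (el M (Adeq.algOf A B) y) h'
  refine ⟨(el M (Adeq.algOf A A)).symm ((1 : A) ⊗ₜ[A] m), (el M (Adeq.algOf A B)).injective ?_⟩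
  rw [el_unitHom, LinearEquiv.apply_symm_apply]
  change (1 : B) ⊗ₜ[A] TensorProduct.lid A M ((1 : A) ⊗ₜ[A] m) = _
  rw [TensorProduct.lid_tmul, one_smul, hm]

/-- Adequate functors satisfy faithfully flat descent. -/
theorem adequate_ff_descent {F : Adeq.MVF A} (hF : Adeq.adequate A F) :
    Function.Injective (tr F (unitHom B)) ∧
      ∀ y, tr F (inl₂ B) y = tr F (inr₂ B) y → ∃ x, tr F (unitHom B) x = y := by
  obtain ⟨M, N, ι, φ, hinj, hzero, hex⟩ := exists_embedding hF
  refine ⟨fun x y h => hinj _ (injective_tr_U B M (by rw [← ap_tr, ← ap_tr, h])), fun y hy => ?_⟩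
  obtain ⟨m, hm⟩ := descent_U B M (ap ι (Adeq.algOf A B) y) (by rw [← ap_tr, ← ap_tr, hy])
  obtain ⟨x, hx⟩ := hex (Adeq.algOf A A) m (injective_tr_U B N (by rw [← ap_tr, hm, hzero, map_zero]))
  exact ⟨x, hinj _ (by rw [ap_tr, hx, hm])⟩

end AdeqLib
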