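import Groth.Prelude.Def_Adeq
import Mathlib.Algebra.Category.ModuleCat.Presheaf.EpiMono
import Mathlib.Algebra.Category.ModuleCat.Presheaf.Limits
import Mathlib.Algebra.Category.ModuleCat.Presheaf.Colimits
import Mathlib.Algebra.Homology.ShortComplex.ModuleCat
import Mathlib.LinearAlgebra.TensorProduct.RightExactness

/-!
Element-wise description of kernels and exactness for module-valued functors.
-/

set_option autoImplicit false
universe u

open CategoryTheory Limits TensorProduct Opposite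

noncomputable section

namespace AdeqLib

variable {A : Type u} [CommRing A]

/-- The component of a morphism at an algebra, as a linear map. -/
abbrev ap {F G : Adeq.MVF A} (f : F ⟶ G) (B : Adeq.Alg A) :
    F.obj (Adeq.pt B) →ₗ[(B : Type u)] G.obj (Adeq.pt B) :=
  (f.app (Adeq.pt B)).hom

theorem ap_comp {F G H : Adeq.MVF A} (f : F ⟶ G) (g : G ⟶ H) (B : Adeq.Alg A) (x : F.obj (Adeq.pt B)) :
    ap (f ≫ g) B x = ap g B (ap f B x) := rfl

theorem ap_add {F G : Adeq.MVF A} (f g : F ⟶ G) (B : Adeq.Alg A) (x : F.obj (Adeq.pt B)) :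
    ap (f + g) B x = ap f B x + ap g B x := rfl

theorem ap_zero {F G : Adeq.MVF A} (B : Adeq.Alg A) (x : F.obj (Adeq.pt B)) :
    ap (0 : F ⟶ G) B x = 0 := rfl

/-- The transition map of a functor, with values in the module of the target algebra. -/
def tr (F : Adeq.MVF A) {B B' : Adeq.Alg A} (h : B ⟶ B') : F.obj (Adeq.pt B) →+ F.obj (Adeq.pt B') :=
  (F.map (Adeq.ptHom h)).hom.toAddMonoidHom

theorem tr_apply (F : Adeq.MVF A) {B B' : Adeq.Alg A} (h : B ⟶ B') (x : F.obj (Adeq.pt B)) :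
    tr F h x = F.map (Adeq.ptHom h) x := rfl

theorem tr_smul (F : Adeq.MVF A) {B B' : Adeq.Alg A} (h : B ⟶ B') (b : B) (x : F.obj (Adeq.pt B)) :
    tr F h (b • x) = h.hom b • tr F h x :=
  PresheafOfModules.map_smul F (Adeq.ptHom h) b x

theorem ap_tr {F G : Adeq.MVF A} (f : F ⟶ G) {B B' : Adeq.Alg A} (h : B ⟶ B') (x : F.obj (Adeq.pt B)) :
    ap f B' (tr F h x) = tr G h (ap f B x) :=
  PresheafOfModules.naturality_apply f (Adeq.ptHom h) x

theorem ap_smul {F G : Adeq.MVF A} (f : F ⟶ G) (B : Adeq.Alg A) (b : B) (x : F.obj (Adeq.pt B)) :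
    ap f B (b • x) = b • ap f B x := map_smul (ap f B) b x

theorem hom_ext {F G : Adeq.MVF A} {f g : F ⟶ G} (h : ∀ (B : Adeq.Alg A) x, ap f B x = ap g B x) : f = g := by
  ext X x
  exact h X.unop.unop x

theorem mono_iff {F G : Adeq.MVF A} (f : F ⟶ G) : Mono f ↔ ∀ B, Function.Injective (ap f B) :=
  ⟨fun _ B => PresheafOfModules.injective_of_mono f (Adeq.pt B),
    fun h => PresheafOfModules.mono_of_injective fun X => h X.unop.unop⟩

theorem epi_iff {F G : Adeq.MVF A} (f : F ⟶ G) : Epi f ↔ ∀ B, Function.Surjective (ap f B) :=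
  ⟨fun _ B => PresheafOfModules.surjective_of_epi f (Adeq.pt B),
    fun h => PresheafOfModules.epi_of_surjective fun X => h X.unop.unop⟩

theorem exact_iff (S : ShortComplex (Adeq.MVF A)) :
    S.Exact ↔ ∀ (B : Adeq.Alg A) x, ap S.g B x = 0 → ∃ y, ap S.f B y = x := by
  constructor
  · intro h B x hx
    have : (PresheafOfModules.evaluation.{u + 1} (Adeq.ringOf A) (Adeq.pt B)).Additive := { }
    have : PreservesFiniteLimits (PresheafOfModules.evaluation.{u + 1} (Adeq.ringOf A) (Adeq.pt B)) :=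
      PresheafOfModules.evaluation_preservesFiniteLimits (Adeq.ringOf A) _
    have : PreservesFiniteColimits (PresheafOfModules.evaluation.{u + 1} (Adeq.ringOf A) (Adeq.pt B)) :=
      PresheafOfModules.Finite.evaluation_preservesFiniteColimits (Adeq.ringOf A) _
    exact (ShortComplex.moduleCat_exact_iff _).1
      (h.map (PresheafOfModules.evaluation (Adeq.ringOf A) (Adeq.pt B))) x hx
  · intro h
    rw [S.exact_iff_epi_kernel_lift, epi_iff]
    intro B x
    obtain ⟨y, hy⟩ := h B (ap (kernel.ι S.g) B x) (by rw [← ap_comp, kernel.condition, ap_zero])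
    refine ⟨y, (mono_iff (kernel.ι S.g)).1 inferInstance B ?_⟩
    rw [← ap_comp, kernel.lift_ι, hy]

theorem kernel_ι_injective {F G : Adeq.MVF A} (f : F ⟶ G) (B : Adeq.Alg A) :
    Function.Injective (ap (kernel.ι f) B) :=
  (mono_iff _).1 inferInstance B

theorem kernel_condition_apply {F G : Adeq.MVF A} (f : F ⟶ G) (B : Adeq.Alg A) (x : (kernel f).obj (Adeq.pt B)) :
    ap f B (ap (kernel.ι f) B x) = 0 := by
  rw [← ap_comp, kernel.condition, ap_zero]

theorem exists_kernel_lift {F G : Adeq.MVF A} (f : F ⟶ G) (B : Adeq.Alg A) (x : F.obj (Adeq.pt B))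
    (hx : ap f B x = 0) : ∃ y, ap (kernel.ι f) B y = x :=
  (exact_iff (ShortComplex.mk (kernel.ι f) f (kernel.condition f))).1
    (ShortComplex.exact_kernel f) B x hx

theorem isIso_of_bijective {F G : Adeq.MVF A} (f : F ⟶ G) (h : ∀ B, Function.Bijective (ap f B)) : IsIso f := by
  have := (mono_iff f).2 fun B => (h B).1
  have := (epi_iff f).2 fun B => (h B).2
  exact isIso_of_mono_of_epi f

/-- The functor attached to a module, at an algebra. -/
abbrev U (M : ModuleCat.{u + 1} A) : Adeq.MVF A := (Adeq.underline A).obj M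

/-- A map of functors attached to a linear map. -/
abbrev uh {M N : ModuleCat.{u + 1} A} (g : M ⟶ N) : U M ⟶ U N := (Adeq.underline A).map g

/-- The value of `U M` is the tensor product. -/
def el (M : ModuleCat.{u + 1} A) (B : Adeq.Alg A) :
    (U M).obj (Adeq.pt B) ≃ₗ[(B : Type u)] (B : Type u) ⊗[A] M :=
  LinearEquiv.refl (B : Type u) _

theorem el_uh {M N : ModuleCat.{u + 1} A} (g : M ⟶ N) (B : Adeq.Alg A) (x : (U M).obj (Adeq.pt B)) :
    el N B (ap (uh g) B x) = g.hom.baseChange B (el M B x) := rfl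

theorem el_tr {M : ModuleCat.{u + 1} A} {B B' : Adeq.Alg A} (h : B ⟶ B') (x : (U M).obj (Adeq.pt B)) :
    el M B' (tr (U M) h x) = h.hom.toLinearMap.rTensor M (el M B x) := rfl

theorem ap_uh_eq_zero_iff {M N : ModuleCat.{u + 1} A} (g : M ⟶ N) (B : Adeq.Alg A)
    (x : (U M).obj (Adeq.pt B)) : ap (uh g) B x = 0 ↔ g.hom.baseChange B (el M B x) = 0 := by
  rw [← el_uh, LinearEquiv.map_eq_zero_iff]

/-- An embedding in a functor of a module which is the kernel of a linear map shows adequacy. -/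
theorem adequate_of_embedding {F : Adeq.MVF A} {M N : ModuleCat.{u + 1} A} (ι : F ⟶ U M) (φ : M ⟶ N)
    (hinj : ∀ B, Function.Injective (ap ι B)) (hzero : ∀ B x, ap (uh φ) B (ap ι B x) = 0)
    (hex : ∀ B x, ap (uh φ) B x = 0 → ∃ y, ap ι B y = x) : Adeq.adequate A F := by
  have hz : ι ≫ uh φ = 0 := hom_ext fun B x => by rw [ap_comp, hzero, ap_zero]
  have : IsIso (kernel.lift (uh φ) ι hz) := by
    refine isIso_of_bijective _ fun B => ⟨fun x y h => hinj B ?_, fun z => ?_⟩
    · rw [← kernel.lift_ι (uh φ) ι hz, ap_comp, ap_comp, h]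
    · obtain ⟨y, hy⟩ := hex B (ap (kernel.ι (uh φ)) B z) (kernel_condition_apply _ B z)
      refine ⟨y, kernel_ι_injective _ B ?_⟩
      rw [← ap_comp, kernel.lift_ι, hy]
  exact ⟨M, N, φ, ⟨asIso (kernel.lift (uh φ) ι hz)⟩⟩

/-- Adequate functors embed in functors of modules as kernels of linear maps. -/
theorem exists_embedding {F : Adeq.MVF A} (hF : Adeq.adequate A F) :
    ∃ (M N : ModuleCat.{u + 1} A) (ι : F ⟶ U M) (φ : M ⟶ N), (∀ B, Function.Injective (ap ι B)) ∧
      (∀ B x, ap (uh φ) B (ap ι B x) = 0) ∧ ∀ B x, ap (uh φ) B x = 0 → ∃ y, ap ι B y = x := by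
  obtain ⟨M, N, φ, ⟨e⟩⟩ := hF
  refine ⟨M, N, e.hom ≫ kernel.ι (uh φ), φ, fun B => ?_, fun B x => ?_, fun B x hx => ?_⟩
  · exact (mono_iff _).1 inferInstance B
  · rw [ap_comp, kernel_condition_apply]
  · obtain ⟨y, hy⟩ := exists_kernel_lift _ B x hx
    refine ⟨ap e.inv B y, ?_⟩
    rw [ap_comp, ← ap_comp e.inv, e.inv_hom_id]
    exact hy

end AdeqLib
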