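import Groth.Agent.AdeqLib.Colimit
import Mathlib.CategoryTheory.Abelian.Subcategory
import Mathlib.CategoryTheory.Limits.FullSubcategory
import Mathlib.Algebra.Category.Grp.AB
import Mathlib.CategoryTheory.Abelian.GrothendieckAxioms.FunctorCategory
import Mathlib.Algebra.Category.Grp.FilteredColimits
import Mathlib.CategoryTheory.Abelian.GrothendieckCategory.EnoughInjectives
import Mathlib.CategoryTheory.Adjunction.AdjointFunctorTheorems
import Mathlib.CategoryTheory.Functor.ReflectsIso.Balanced

/-!
Adequate functors form a Grothendieck abelian category.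
-/

set_option autoImplicit false
universe u

open CategoryTheory Limits

noncomputable section

namespace AdeqLib

variable (A : Type u) [CommRing A]

theorem adequate_U (M : ModuleCat.{u + 1} A) : Adeq.adequate A (U M) :=
  adequate_of_embedding (𝟙 _) (0 : M ⟶ M) (fun B => Function.injective_id)
    (fun B x => by rw [ap_uh_eq_zero_iff, ModuleCat.hom_zero, LinearMap.baseChange_zero]; rfl)
    (fun B x _ => ⟨x, rfl⟩)

instance containsZero : (Adeq.adequate A).ContainsZero where
  exists_zero := ⟨U (ModuleCat.of A PUnit.{u + 2}),
    (Adeq.underline A).map_isZero (ModuleCat.isZero_of_subsingleton _), adequate_U A _⟩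

instance closedKernels : (Adeq.adequate A).IsClosedUnderKernels where
  kernels_le := by
    rintro _ ⟨f, k, hk, hf⟩
    exact (Adeq.adequate A).prop_of_iso ((kernelIsKernel f).conePointUniqueUpToIso hk)
      (adequate_kernel f hf.1 hf.2)

instance closedCokernels : (Adeq.adequate A).IsClosedUnderCokernels where
  cokernels_le := by
    rintro _ ⟨f, k, hk, hf⟩
    exact (Adeq.adequate A).prop_of_iso ((cokernelIsCokernel f).coconePointUniqueUpToIso hk)
      (adequate_cokernel f hf.1 hf.2)

instance closedFiniteProducts : (Adeq.adequate A).IsClosedUnderFiniteProducts :=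
  .of_isClosedUnderLimitsOfShape.{u + 1} fun J _ => ⟨by
    rintro X ⟨p⟩
    have := HasFiniteBiproducts.of_hasFiniteProducts (C := Adeq.MVF A)
    let F : J → Adeq.MVF A := fun j => p.diag.obj ⟨j⟩
    exact (Adeq.adequate A).prop_of_iso ((biproduct.isoCoproduct F).symm ≪≫ biproduct.isoProduct F ≪≫
      HasLimit.isoOfNatIso (Discrete.natIsoFunctor (F := p.diag)).symm ≪≫
      (limit.isLimit p.diag).conePointUniqueUpToIso p.isLimit)
      (adequate_sigma F fun j => p.prop_diag_obj ⟨j⟩)⟩

instance closedColimits (J : Type (u + 1)) [SmallCategory J] :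
    (Adeq.adequate A).IsClosedUnderColimitsOfShape J where
  colimitsOfShape_le := by
    rintro X ⟨p⟩
    exact (Adeq.adequate A).prop_of_iso ((colimit.isColimit p.diag).coconePointUniqueUpToIso p.isColimit)
      (adequate_colimit p.diag p.prop_diag_obj)

instance hasColimits : HasColimitsOfSize.{u + 1, u + 1} (Adeq.Adequate A) where
  has_colimits_of_shape _ _ := inferInstance

instance preservesColimits : PreservesColimitsOfSize.{u + 1, u + 1} (Adeq.adequate A).ι where
  preservesColimitsOfShape := inferInstance

instance mvf_ab5 : AB5OfSize.{u + 1, u + 1} (Adeq.MVF A) where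
  ofShape K _ _ := by
    have := reflectsFiniteLimits_of_reflectsIsomorphisms (PresheafOfModules.toPresheaf.{u + 1} (Adeq.ringOf A))
    exact HasExactColimitsOfShape.domain_of_functor K (PresheafOfModules.toPresheaf.{u + 1} (Adeq.ringOf A))

instance preservesFiniteLimits : PreservesFiniteLimits (Adeq.adequate A).ι := by
  have := (Adeq.adequate A).preservesKernels_ι
  have : (Adeq.adequate A).ι.Additive := inferInstance
  exact Functor.preservesFiniteLimits_of_preservesKernels _

instance ab5 : AB5OfSize.{u + 1, u + 1} (Adeq.Adequate A) where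
  ofShape K _ _ := by
    have := reflectsFiniteLimits_of_reflectsIsomorphisms (Adeq.adequate A).ι
    exact HasExactColimitsOfShape.domain_of_functor K (Adeq.adequate A).ι

/-- The linearly adequate functors given by matrices. -/
def gen (i : Σ n m : ℕ, (fr A n ⟶ fr A m)) : Adeq.Adequate A :=
  ⟨kernel (uh i.2.2), fr A i.1, fr A i.2.1, i.2.2, ⟨Iso.refl _⟩⟩

theorem isSeparating_gen : (ObjectProperty.ofObj (gen A)).IsSeparating := by
  intro F G f g h
  obtain ⟨c, π, hπ⟩ := exists_cover F.property
  apply (Adeq.adequate A).ι.map_injective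
  refine (cancel_epi π).1 (dker_hom_ext _ _ c.a fun i => ?_)
  have e := congrArg (Adeq.adequate A).ι.map
    (h (gen A ⟨c.n i, c.m i, c.a i⟩) (ObjectProperty.ofObj_apply _ _) (ObjectProperty.homMk (kin _ _ c.a i ≫ π)))
  simp only [Functor.map_comp] at e
  rw [← Category.assoc, ← Category.assoc]
  exact e

instance hasSeparator : HasSeparator (Adeq.Adequate A) :=
  ⟨_, isSeparator_of_isColimit_cofan (isSeparating_gen A) (coproductIsCoproduct (gen A))⟩

instance isGrothendieckAbelian : IsGrothendieckAbelian.{u + 1} (Adeq.Adequate A) where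
  hasFilteredColimitsOfSize := ⟨fun _ _ _ => inferInstance⟩

theorem enoughInjectives : EnoughInjectives (Adeq.Adequate A) :=
  IsGrothendieckAbelian.enoughInjectives.{u + 1}

theorem isLeftAdjoint : (Adeq.adequate A).ι.IsLeftAdjoint :=
  isLeftAdjoint_of_preservesColimits_of_isSeparating (isSeparating_gen A) _

end AdeqLib
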