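import Groth.Agent.AdeqLib.Mk
import Mathlib.LinearAlgebra.TensorProduct.Tower

/-!
Change of the base ring preserves adequacy.
-/

set_option autoImplicit false
universe u

open CategoryTheory Limits TensorProduct

noncomputable section

namespace AdeqLib

section restr

variable {A A' : Type u} [CommRing A] [CommRing A'] [Algebra A A']

/-- The module over the new ring. -/
abbrev bcMod (A' : Type u) [CommRing A'] [Algebra A A'] (M : ModuleCat.{u + 1} A) : ModuleCat.{u + 1} A' :=
  ModuleCat.of A' (A' ⊗[A] M)

theorem cancel_symm_baseChange {M N : Type (u + 1)} [AddCommGroup M] [Module A M] [AddCommGroup N] [Module A N]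
    (B' : Type u) [CommRing B'] [Algebra A B'] [Algebra A' B'] [IsScalarTower A A' B'] (φ : M →ₗ[A] N)
    (x : B' ⊗[A] M) :
    (AlgebraTensorModule.cancelBaseChange A A' B' B' N).symm (φ.baseChange B' x) =
      (φ.baseChange A').baseChange B' ((AlgebraTensorModule.cancelBaseChange A A' B' B' M).symm x) := by
  induction x using TensorProduct.induction_on with
  | zero => simp
  | tmul b m => simp
  | add x y hx hy => simp only [map_add, hx, hy]

theorem cancel_symm_map {M : Type (u + 1)} [AddCommGroup M] [Module A M]
    {B₁ B₂ : Type u} [CommRing B₁] [CommRing B₂] [Algebra A B₁] [Algebra A B₂] [Algebra A' B₁] [Algebra A' B₂]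
    [IsScalarTower A A' B₁] [IsScalarTower A A' B₂] (f : B₁ →ₐ[A] B₂) (g : B₁ →ₐ[A'] B₂) (hfg : ∀ b, f b = g b)
    (x : B₁ ⊗[A] M) :
    (AlgebraTensorModule.cancelBaseChange A A' B₂ B₂ M).symm (f.toLinearMap.rTensor M x) =
      g.toLinearMap.rTensor (A' ⊗[A] M) ((AlgebraTensorModule.cancelBaseChange A A' B₁ B₁ M).symm x) := by
  induction x using TensorProduct.induction_on with
  | zero => simp
  | tmul b m => simp [hfg]
  | add x y hx hy => simp only [map_add, hx, hy]

/-- An algebra over the new ring viewed over the old one. -/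
abbrev rB (B' : Adeq.Alg A') : Adeq.Alg A := (Adeq.Alg.restr A A').obj B'

/-- Comparison of the values of the restriction of `U M`. -/
def rEl (M : ModuleCat.{u + 1} A) (B' : Adeq.Alg A') :
    ((Adeq.restr A A').obj (U M)).obj (Adeq.pt B') →+ (U (bcMod A' M)).obj (Adeq.pt B') :=
  letI : Algebra A B' := ((algebraMap A' B').comp (algebraMap A A')).toAlgebra
  haveI : IsScalarTower A A' (B' : Type u) := IsScalarTower.of_algebraMap_eq fun _ => rfl
  (((el M (rB B')).toAddEquiv).trans
    ((AlgebraTensorModule.cancelBaseChange A A' (B' : Type u) (B' : Type u) M).symm.toAddEquiv.trans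
      (el (bcMod A' M) B').symm.toAddEquiv)).toAddMonoidHom

theorem rEl_bijective (M : ModuleCat.{u + 1} A) (B' : Adeq.Alg A') : Function.Bijective (rEl M B') :=
  AddEquiv.bijective _

/-- The comparison as a morphism. -/
def rIso (M : ModuleCat.{u + 1} A) : (Adeq.restr A A').obj (U M) ⟶ U (bcMod A' M) :=
  mkHom (rEl M)
    (fun B' b x => by
      letI : Algebra A B' := ((algebraMap A' B').comp (algebraMap A A')).toAlgebra
      haveI : IsScalarTower A A' (B' : Type u) := IsScalarTower.of_algebraMap_eq fun _ => rfl
      apply (el (bcMod A' M) B').injective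
      exact ((AlgebraTensorModule.cancelBaseChange A A' (B' : Type u) (B' : Type u) M).symm.map_smul b (el M (rB B') x)))
    (fun {B₁ B₂} h x => by
      letI : Algebra A B₁ := ((algebraMap A' B₁).comp (algebraMap A A')).toAlgebra
      haveI : IsScalarTower A A' (B₁ : Type u) := IsScalarTower.of_algebraMap_eq fun _ => rfl
      letI : Algebra A B₂ := ((algebraMap A' B₂).comp (algebraMap A A')).toAlgebra
      haveI : IsScalarTower A A' (B₂ : Type u) := IsScalarTower.of_algebraMap_eq fun _ => rfl
      apply (el (bcMod A' M) B₂).injective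
      exact cancel_symm_map ((Adeq.Alg.restr A A').map h).hom h.hom (fun _ => rfl) (el M (rB B₁) x))

theorem adequate_restr {F : Adeq.MVF A} (hF : Adeq.adequate A F) :
    Adeq.adequate A' ((Adeq.restr A A').obj F) := by
  obtain ⟨M, N, ι, φ, hinj, hzero, hex⟩ := exists_embedding hF
  let φ' : bcMod A' M ⟶ bcMod A' N := ModuleCat.ofHom (φ.hom.baseChange A')
  have key : ∀ (B' : Adeq.Alg A') (z : (U M).obj (Adeq.pt (rB B'))),
      ap (uh φ') B' (rEl M B' z) = rEl N B' (ap (uh φ) (rB B') z) := fun B' z => by
    letI : Algebra A B' := ((algebraMap A' B').comp (algebraMap A A')).toAlgebra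
    haveI : IsScalarTower A A' (B' : Type u) := IsScalarTower.of_algebraMap_eq fun _ => rfl
    apply (el (bcMod A' N) B').injective
    exact (cancel_symm_baseChange (B' : Type u) φ.hom (el M (rB B') z)).symm
  refine adequate_of_embedding ((Adeq.restr A A').map ι ≫ rIso M) φ'
    (fun B' => (rEl_bijective M B').1.comp (hinj (rB B'))) (fun B' x => ?_) (fun B' x hx => ?_)
  · exact (key B' (ap ι (rB B') x)).trans ((congrArg (rEl N B') (hzero (rB B') x)).trans (map_zero _))
  · obtain ⟨z, rfl⟩ := (rEl_bijective M B').2 x
    obtain ⟨y, hy⟩ := hex (rB B') z ((rEl_bijective N B').1 ((key B' z).symm.trans (hx.trans (map_zero _).symm)))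
    exact ⟨y, congrArg (rEl M B') hy⟩

end restr

section push

variable {A A' : Type u} [CommRing A] [CommRing A'] [Algebra A A']

/-- The forward comparison for the direct image. -/
def pE (M : Type (u + 1)) [AddCommGroup M] [Module A M] [Module A' M] [IsScalarTower A A' M]
    (B : Type u) [CommRing B] [Algebra A B] :
    (A' ⊗[A] B) ⊗[A'] M ≃+ B ⊗[A] M :=
  ((TensorProduct.comm A' (A' ⊗[A] B) M).trans (AlgebraTensorModule.cancelBaseChange A A' A' M B)).toAddEquiv.trans
    (TensorProduct.comm A M B).toAddEquiv

theorem pE_tmul (M : Type (u + 1)) [AddCommGroup M] [Module A M] [Module A' M] [IsScalarTower A A' M]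
    (B : Type u) [CommRing B] [Algebra A B] (a : A') (b : B) (m : M) :
    pE M B ((a ⊗ₜ[A] b) ⊗ₜ[A'] m) = b ⊗ₜ[A] (a • m) := by
  simp [pE]

theorem pE_smul (M : Type (u + 1)) [AddCommGroup M] [Module A M] [Module A' M] [IsScalarTower A A' M]
    (B : Type u) [CommRing B] [Algebra A B] (c : B) (x : (A' ⊗[A] B) ⊗[A'] M) :
    pE M B (((1 : A') ⊗ₜ[A] c) • x) = c • pE M B x := by
  induction x using TensorProduct.induction_on with
  | zero => simp
  | tmul t m =>
    induction t using TensorProduct.induction_on with
    | zero => simp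
    | tmul a b =>
      rw [TensorProduct.smul_tmul', smul_eq_mul, Algebra.TensorProduct.tmul_mul_tmul, one_mul, pE_tmul, pE_tmul,
        TensorProduct.smul_tmul', smul_eq_mul]
    | add s t hs ht => simp only [TensorProduct.add_tmul, smul_add, map_add, hs, ht]
  | add x y hx hy => simp only [smul_add, map_add, hx, hy]

theorem pE_map (M : Type (u + 1)) [AddCommGroup M] [Module A M] [Module A' M] [IsScalarTower A A' M]
    {B₁ B₂ : Type u} [CommRing B₁] [CommRing B₂] [Algebra A B₁] [Algebra A B₂] (f : B₁ →ₐ[A] B₂)
    (x : (A' ⊗[A] B₁) ⊗[A'] M) :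
    pE M B₂ ((Algebra.TensorProduct.map (AlgHom.id A' A') f).toLinearMap.rTensor M x) =
      f.toLinearMap.rTensor M (pE M B₁ x) := by
  induction x using TensorProduct.induction_on with
  | zero => simp
  | tmul t m =>
    induction t using TensorProduct.induction_on with
    | zero => simp
    | tmul a b => simp [pE_tmul]
    | add s t hs ht => simp only [TensorProduct.add_tmul, map_add, hs, ht]
  | add x y hx hy => simp only [map_add, hx, hy]

theorem pE_baseChange {M N : Type (u + 1)} [AddCommGroup M] [Module A M] [Module A' M] [IsScalarTower A A' M]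
    [AddCommGroup N] [Module A N] [Module A' N] [IsScalarTower A A' N] (φ : M →ₗ[A'] N)
    (B : Type u) [CommRing B] [Algebra A B] (x : (A' ⊗[A] B) ⊗[A'] M) :
    pE N B (φ.baseChange (A' ⊗[A] B) x) = (φ.restrictScalars A).baseChange B (pE M B x) := by
  induction x using TensorProduct.induction_on with
  | zero => simp
  | tmul t m =>
    induction t using TensorProduct.induction_on with
    | zero => simp
    | tmul a b => simp [pE_tmul]
    | add s t hs ht => simp only [TensorProduct.add_tmul, map_add, hs, ht]
  | add x y hx hy => simp only [map_add, hx, hy]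

/-- A module over the new ring seen over the old one. -/
abbrev rMod (A : Type u) [CommRing A] {A' : Type u} [CommRing A'] [Algebra A A'] (M : ModuleCat.{u + 1} A') :
    ModuleCat.{u + 1} A :=
  letI : Module A M := Module.compHom M (algebraMap A A')
  ModuleCat.of A M

/-- An algebra over the old ring pushed to the new one. -/
abbrev pB (A' : Type u) [CommRing A'] [Algebra A A'] (B : Adeq.Alg A) : Adeq.Alg A' :=
  (Adeq.Alg.baseChange A A').obj B

/-- Comparison of the values of the direct image of `U M`. -/
def pEl (M : ModuleCat.{u + 1} A') (B : Adeq.Alg A) :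
    ((Adeq.push A A').obj (U M)).obj (Adeq.pt B) →+ (U (rMod A M)).obj (Adeq.pt B) :=
  letI : Module A M := Module.compHom M (algebraMap A A')
  haveI : IsScalarTower A A' M := IsScalarTower.of_compHom A A' M
  ((el M (pB A' B)).toAddEquiv.trans ((pE M (B : Type u)).trans (el (rMod A M) B).symm.toAddEquiv)).toAddMonoidHom

theorem pEl_bijective (M : ModuleCat.{u + 1} A') (B : Adeq.Alg A) : Function.Bijective (pEl M B) :=
  AddEquiv.bijective _

/-- The comparison as a morphism. -/
def pIso (M : ModuleCat.{u + 1} A') : (Adeq.push A A').obj (U M) ⟶ U (rMod A M) :=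
  mkHom (pEl M)
    (fun B b x => by
      letI : Module A M := Module.compHom M (algebraMap A A')
      haveI : IsScalarTower A A' M := IsScalarTower.of_compHom A A' M
      apply (el (rMod A M) B).injective
      exact pE_smul M (B : Type u) b (el M (pB A' B) x))
    (fun {B₁ B₂} h x => by
      letI : Module A M := Module.compHom M (algebraMap A A')
      haveI : IsScalarTower A A' M := IsScalarTower.of_compHom A A' M
      apply (el (rMod A M) B₂).injective
      exact pE_map M h.hom (el M (pB A' B₁) x))

theorem adequate_push {F : Adeq.MVF A'} (hF : Adeq.adequate A' F) :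
    Adeq.adequate A ((Adeq.push A A').obj F) := by
  obtain ⟨M, N, ι, φ, hinj, hzero, hex⟩ := exists_embedding hF
  letI : Module A M := Module.compHom M (algebraMap A A')
  haveI : IsScalarTower A A' M := IsScalarTower.of_compHom A A' M
  letI : Module A N := Module.compHom N (algebraMap A A')
  haveI : IsScalarTower A A' N := IsScalarTower.of_compHom A A' N
  let φ' : rMod A M ⟶ rMod A N := ModuleCat.ofHom (φ.hom.restrictScalars A)
  have key : ∀ (B : Adeq.Alg A) (z : (U M).obj (Adeq.pt (pB A' B))),
      ap (uh φ') B (pEl M B z) = pEl N B (ap (uh φ) (pB A' B) z) := fun B z => by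
    apply (el (rMod A N) B).injective
    exact (pE_baseChange φ.hom (B : Type u) (el M (pB A' B) z)).symm
  refine adequate_of_embedding ((Adeq.push A A').map ι ≫ pIso M) φ'
    (fun B => (pEl_bijective M B).1.comp (hinj (pB A' B))) (fun B x => ?_) (fun B x hx => ?_)
  · exact (key B (ap ι (pB A' B) x)).trans ((congrArg (pEl N B) (hzero (pB A' B) x)).trans (map_zero _))
  · obtain ⟨z, rfl⟩ := (pEl_bijective M B).2 x
    obtain ⟨y, hy⟩ := hex (pB A' B) z ((pEl_bijective N B).1 ((key B z).symm.trans (hx.trans (map_zero _).symm)))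
    exact ⟨y, congrArg (pEl M B) hy⟩

end push

end AdeqLib
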