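import Groth.Agent.AdeqLib.Abelian
import Mathlib.CategoryTheory.Limits.Constructions.LimitsOfProductsAndEqualizers

/-!
Colimits of adequate functors are adequate.
-/

set_option autoImplicit false
universe u

open CategoryTheory Limits

noncomputable section

namespace AdeqLib

variable {A : Type u} [CommRing A]

/-- Coproducts of adequate functors are adequate. -/
theorem adequate_sigma {ι : Type (u + 1)} (F : ι → Adeq.MVF A) [HasCoproduct F]
    (h : ∀ i, Adeq.adequate A (F i)) : Adeq.adequate A (∐ F) := by
  choose M N φ e using h
  have : HasCoproduct fun i => kernel (uh (φ i)) := HasColimit.mk ⟨_, isColimitKin M N φ⟩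
  exact (Adeq.adequate A).prop_of_iso
    ((colimit.isoColimitCocone ⟨_, isColimitKin M N φ⟩).symm ≪≫ Sigma.mapIso fun i => (e i).some.symm)
    (adequate_dker M N φ)

/-- The cokernel of the difference is the coequalizer. -/
def cokernelSubIso {C : Type*} [Category C] [Preadditive C] {X Y : C} (f g : X ⟶ Y) [HasCokernel (f - g)]
    [HasCoequalizer f g] : cokernel (f - g) ≅ coequalizer f g where
  hom := cokernel.desc _ (coequalizer.π f g) (by rw [Preadditive.sub_comp, coequalizer.condition, sub_self])
  inv := coequalizer.desc (cokernel.π (f - g)) (by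
    have := cokernel.condition (f - g)
    rwa [Preadditive.sub_comp, sub_eq_zero] at this)
  hom_inv_id := by
    rw [← cancel_epi (cokernel.π (f - g))]
    simp
  inv_hom_id := by
    rw [← cancel_epi (coequalizer.π f g)]
    simp

/-- Colimits of adequate functors are adequate. -/
theorem adequate_colimit {J : Type (u + 1)} [SmallCategory J] (D : J ⥤ Adeq.MVF A)
    (hD : ∀ j, Adeq.adequate A (D.obj j)) : Adeq.adequate A (colimit D) := by
  have := hasFiniteColimits_of_hasColimitsOfSize.{u + 1, u + 1} (Adeq.MVF A)
  refine (Adeq.adequate A).prop_of_iso (colimit.isoColimitCocone (colimitCoconeOfCoequalizerAndCoproduct D)).symm ?_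
  exact (Adeq.adequate A).prop_of_iso (cokernelSubIso _ _)
    (adequate_cokernel _ (adequate_sigma _ fun f => hD f.1.1) (adequate_sigma _ hD))

end AdeqLib
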