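import Groth.Agent.AdeqLib.Base
import Mathlib.LinearAlgebra.TensorProduct.Finiteness
import Mathlib.LinearAlgebra.Finsupp.LinearCombination
import Mathlib.LinearAlgebra.FreeModule.Finite.Basic
import Mathlib.RingTheory.Finiteness.Cardinality
import Mathlib.LinearAlgebra.StdBasis

/-!
Elements of an adequate functor come from squares with finite free corners.
-/

set_option autoImplicit false
universe u

open CategoryTheory Limits TensorProduct

noncomputable section

namespace AdeqLib

variable {A : Type u} [CommRing A]

/-- The free module of rank `n`, one universe up. -/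
abbrev fr (A : Type u) [CommRing A] (n : ℕ) : ModuleCat.{u + 1} A :=
  ModuleCat.of A (ULift.{u + 1} (Fin n → A))

instance free_fr (n : ℕ) : Module.Free A (fr A n) :=
  Module.Free.of_equiv (ULift.moduleEquiv (R := A) (M := Fin n → A)).symm

instance finite_fr (n : ℕ) : Module.Finite A (fr A n) :=
  Module.Finite.equiv (ULift.moduleEquiv (R := A) (M := Fin n → A)).symm

/-- A commutative square into `φ` with finite free corners. -/
structure Sq {M N : ModuleCat.{u + 1} A} (φ : M ⟶ N) : Type (u + 1) where
  /-- The first rank. -/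
  n : ℕ
  /-- The second rank. -/
  m : ℕ
  /-- The top map. -/
  a : fr A n ⟶ fr A m
  /-- The left map. -/
  g : fr A n ⟶ M
  /-- The right map. -/
  h : fr A m ⟶ N
  w : g ≫ φ = a ≫ h

/-- Every element of the kernel comes from such a square. -/
theorem exists_sq {M N : ModuleCat.{u + 1} A} (φ : M ⟶ N) (B : Type u) [CommRing B] [Algebra A B]
    (x : B ⊗[A] M) (hx : φ.hom.baseChange B x = 0) :
    ∃ (q : Sq φ) (z : B ⊗[A] (fr A q.n)), q.a.hom.baseChange B z = 0 ∧ q.g.hom.baseChange B z = x := by
  classical
  let π : (N →₀ A) →ₗ[A] N := Finsupp.linearCombination A id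
  have hπ : Function.Surjective π := fun y => ⟨Finsupp.single y 1, by simp [π]⟩
  obtain ⟨k, b, mm, hsum⟩ := TensorProduct.exists_sum_tmul_eq x
  let y : B ⊗[A] (N →₀ A) := ∑ i : Fin k, b i ⊗ₜ[A] Finsupp.single (φ.hom (mm i)) 1
  have hy : π.lTensor B y = 0 := by
    rw [← hx, hsum]
    simp [y, π, map_sum]
  have hex : Function.Exact (LinearMap.ker π).subtype π := π.exact_subtype_ker_map
  have hl := lTensor_exact (R := A) (M := ↥(LinearMap.ker π)) (N := N →₀ A) (P := N) B hex hπ
  obtain ⟨r, hr⟩ := (hl y).1 hy
  obtain ⟨l, c, rr, hrsum⟩ := TensorProduct.exists_sum_tmul_eq r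
  let v : Fin (k + l) → (N →₀ A) :=
    Fin.append (fun i => Finsupp.single (φ.hom (mm i)) 1) (fun j => -(rr j : N →₀ A))
  let w : Fin (k + l) → M := Fin.append mm 0
  let co : Fin (k + l) → B := Fin.append b c
  let s : Finset N := Finset.univ.biUnion fun i => (v i).support
  let e : Fin s.card ≃ s := s.equivFin.symm
  let res : (N →₀ A) →ₗ[A] (Fin s.card → A) := LinearMap.pi fun t => Finsupp.lapply (e t : N)
  let hh : (Fin s.card → A) →ₗ[A] N := Fintype.linearCombination A fun t => (e t : N)
  have hres : ∀ f : N →₀ A, f.support ⊆ s → hh (res f) = π f := by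
    intro f hf
    rw [show π f = ∑ t ∈ s, f t • t from (Finsupp.linearCombination_apply _ _).trans
      (Finsupp.sum_of_support_subset _ hf _ (fun t _ => zero_smul A t)), ← Finset.sum_coe_sort,
      ← e.sum_comp]
    simp [hh, res, Fintype.linearCombination_apply]
  have hvw : ∀ i, π (v i) = φ.hom (w i) := Fin.addCases
    (fun i => by simp [v, w, π])
    (fun j => by
      have h0 : π (rr j) = 0 := (rr j).2
      simp [v, w, h0])
  let U := (ULift.moduleEquiv (R := A) (M := Fin (k + l) → A))
  let q : Sq φ :=
    { n := k + l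
      m := s.card
      a := ModuleCat.ofHom ((ULift.moduleEquiv (R := A) (M := Fin s.card → A)).symm.toLinearMap ∘ₗ res ∘ₗ
        Fintype.linearCombination A v ∘ₗ U.toLinearMap)
      g := ModuleCat.ofHom (Fintype.linearCombination A w ∘ₗ U.toLinearMap)
      h := ModuleCat.ofHom (hh ∘ₗ (ULift.moduleEquiv (R := A) (M := Fin s.card → A)).toLinearMap)
      w := by
        ext : 1
        apply LinearMap.ext
        rintro ⟨f⟩
        change φ.hom (Fintype.linearCombination A w f) = hh (res (Fintype.linearCombination A v f))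
        simp only [Fintype.linearCombination_apply, map_sum, map_smul]
        refine Finset.sum_congr rfl fun i _ => ?_
        rw [hres _ (Finset.subset_biUnion_of_mem (fun i => (v i).support) (Finset.mem_univ i)), hvw] }
  refine ⟨q, ∑ i, co i ⊗ₜ[A] U.symm (Pi.single i 1), ?_, ?_⟩
  · have h0 : (∑ i, co i ⊗ₜ[A] v i) = 0 := by
      rw [Fin.sum_univ_add]
      simp only [co, v, Fin.append_left, Fin.append_right, TensorProduct.tmul_neg, Finset.sum_neg_distrib]
      rw [show (∑ j, c j ⊗ₜ[A] (rr j : N →₀ A)) = y by rw [← hr, hrsum, map_sum]; rfl]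
      exact add_neg_cancel y
    have h1 := congrArg (((ULift.moduleEquiv (R := A) (M := Fin s.card → A)).symm.toLinearMap ∘ₗ res).baseChange B) h0
    rw [map_zero] at h1
    rw [← h1]
    simp [q, U, map_sum, Fintype.linearCombination_apply_single]
  · rw [hsum, map_sum, Fin.sum_univ_add]
    simp [q, U, co, w, Fintype.linearCombination_apply_single]

end AdeqLib
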