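import Groth.Agent.AdeqLib.Descent
import Groth.Agent.AdeqLib.Squares
import Mathlib.Algebra.Category.CommAlgCat.Basic
import Mathlib.Algebra.Category.Ring.FilteredColimits
import Mathlib.CategoryTheory.Limits.Preserves.Over
import Mathlib.CategoryTheory.Limits.Types.Filtered

/-!
Adequate functors commute with filtered colimits.
-/

set_option autoImplicit false
universe u v w

open CategoryTheory Limits TensorProduct

noncomputable section

namespace AdeqLib

/-- A cocone of abelian groups under a filtered diagram which is jointly surjective and jointly injective is a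
colimit cocone. -/
def isColimitOfJointly {J : Type v} [SmallCategory J] [IsFiltered J] {G : J ⥤ AddCommGrpCat.{w}} (t : Cocone G)
    (hs : ∀ x : t.pt, ∃ j y, t.ι.app j y = x)
    (hz : ∀ j y, t.ι.app j y = 0 → ∃ (k : J) (f : j ⟶ k), G.map f y = 0) : IsColimit t :=
  have key : ∀ (s : Cocone G) (i j : J) (x : G.obj i) (y : G.obj j), t.ι.app i x = t.ι.app j y →
      s.ι.app i x = s.ι.app j y := fun s i j x y h => by
    let k := IsFiltered.max i j
    have hk : t.ι.app k (G.map (IsFiltered.leftToMax i j) x - G.map (IsFiltered.rightToMax i j) y) = 0 := by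
      rw [map_sub, ← ConcreteCategory.comp_apply, ← ConcreteCategory.comp_apply, t.w, t.w, h, sub_self]
    obtain ⟨l, f, hl⟩ := hz k _ hk
    have h2 : s.ι.app k (G.map (IsFiltered.leftToMax i j) x - G.map (IsFiltered.rightToMax i j) y) = 0 := by
      rw [← s.w f, ConcreteCategory.comp_apply, hl, map_zero]
    rwa [map_sub, ← ConcreteCategory.comp_apply, ← ConcreteCategory.comp_apply, s.w, s.w, sub_eq_zero] at h2
  { desc := fun s => AddCommGrpCat.ofHom (AddMonoidHom.mk'
      (fun x => s.ι.app (hs x).choose (hs x).choose_spec.choose) (fun x y => by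
        let i := (hs x).choose
        let j := (hs y).choose
        let xi := (hs x).choose_spec.choose
        let yj := (hs y).choose_spec.choose
        let k := IsFiltered.max i j
        refine (key s (hs (x + y)).choose k (hs (x + y)).choose_spec.choose
          (G.map (IsFiltered.leftToMax i j) xi + G.map (IsFiltered.rightToMax i j) yj) ?_).trans ?_
        · rw [map_add, ← ConcreteCategory.comp_apply, ← ConcreteCategory.comp_apply, t.w, t.w,
            (hs x).choose_spec.choose_spec, (hs y).choose_spec.choose_spec, (hs (x + y)).choose_spec.choose_spec]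
        · rw [map_add, ← ConcreteCategory.comp_apply, ← ConcreteCategory.comp_apply, s.w, s.w]))
    fac := fun s j => by
      ext y
      exact key s _ j _ y (hs (t.ι.app j y)).choose_spec.choose_spec
    uniq := fun s m hm => by
      ext x
      obtain ⟨j, y, rfl⟩ := hs x
      refine Eq.trans ?_ (key s _ j _ y (hs (t.ι.app j y)).choose_spec.choose_spec).symm
      rw [← hm j]
      rfl }

variable {A : Type u} [CommRing A] {J : Type u} [SmallCategory J] [IsFiltered J] {D : J ⥤ Adeq.Alg A}
  {c : Cocone D} (hc : IsColimit c)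

variable (A) in
/-- The underlying sets of algebras. -/
abbrev underlyingSet : Adeq.Alg A ⥤ Type u :=
  (commAlgCatEquivUnder (CommRingCat.of A)).functor ⋙ Under.forget (CommRingCat.of A) ⋙ forget CommRingCat.{u}

include hc

/-- The colimit of algebras is computed on sets. -/
theorem nonempty_isColimit_underlyingSet : Nonempty (IsColimit ((underlyingSet A).mapCocone c)) := by
  have : PreservesColimitsOfShape J (Under.forget (CommRingCat.of A)) :=
    PreservesFilteredColimitsOfSize.preserves_filtered_colimits J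
  have : PreservesColimitsOfShape J (forget CommRingCat.{u}) :=
    PreservesFilteredColimitsOfSize.preserves_filtered_colimits J
  exact ⟨isColimitOfPreserves (underlyingSet A) hc⟩

theorem exists_lift_elt (b : c.pt) : ∃ (j : J) (b' : D.obj j), (c.ι.app j).hom b' = b :=
  Types.jointly_surjective_of_isColimit (nonempty_isColimit_underlyingSet hc).some b

theorem exists_elt_zero (j : J) (b : D.obj j) (h : (c.ι.app j).hom b = 0) :
    ∃ (k : J) (f : j ⟶ k), (D.map f).hom b = 0 := by
  let z : D.obj j := 0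
  have hz : (c.ι.app j).hom b = (c.ι.app j).hom z := h.trans (map_zero (c.ι.app j).hom).symm
  obtain ⟨k, f, hk⟩ := (Types.FilteredColimit.isColimit_eq_iff' (nonempty_isColimit_underlyingSet hc).some
    (i := j) b z).1 hz
  exact ⟨k, f, hk.trans (map_zero (D.map f).hom)⟩

/-- Tensors with the colimit come from a stage. -/
theorem exists_lift_tmul (M : ModuleCat.{u + 1} A) (x : (U M).obj (Adeq.pt c.pt)) :
    ∃ (j : J) (x' : (U M).obj (Adeq.pt (D.obj j))), tr (U M) (c.ι.app j) x' = x := by
  obtain ⟨z, rfl⟩ := (el M c.pt).symm.surjective x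
  induction z using TensorProduct.induction_on with
  | zero =>
    obtain ⟨j⟩ := IsFiltered.nonempty (C := J)
    exact ⟨j, 0, by rw [map_zero, map_zero]⟩
  | tmul b m =>
    obtain ⟨j, b', rfl⟩ := exists_lift_elt hc b
    exact ⟨j, (el M (D.obj j)).symm (b' ⊗ₜ m), (el M c.pt).injective (by
      rw [el_tr, LinearEquiv.apply_symm_apply, LinearEquiv.apply_symm_apply, LinearMap.rTensor_tmul]
      rfl)⟩
  | add z w hz hw =>
    obtain ⟨i, x, hx⟩ := hz
    obtain ⟨j, y, hy⟩ := hw
    refine ⟨IsFiltered.max i j, tr _ (D.map (IsFiltered.leftToMax i j)) x +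
      tr _ (D.map (IsFiltered.rightToMax i j)) y, ?_⟩
    rw [map_add, map_add, ← tr_comp, ← tr_comp, c.w, c.w, hx, hy]

/-- Tensors with a free module vanishing in the colimit vanish at a stage. -/
theorem exists_tmul_zero_free (n : ℕ) (j : J) (x : (U (fr A n)).obj (Adeq.pt (D.obj j)))
    (h : tr (U (fr A n)) (c.ι.app j) x = 0) :
    ∃ (k : J) (f : j ⟶ k), tr (U (fr A n)) (D.map f) x = 0 := by
  classical
  let co : Fin n → (fr A n →ₗ[A] A) := fun i => LinearMap.proj i ∘ₗ ULift.moduleEquiv.toLinearMap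
  let cd : ∀ (B : Adeq.Alg A), Fin n → (B : Type u) ⊗[A] (fr A n) → (B : Type u) := fun B i z =>
    TensorProduct.rid A (B : Type u) ((co i).lTensor (B : Type u) z)
  have hnat : ∀ {B B' : Adeq.Alg A} (g : B ⟶ B') i z, cd B' i (g.hom.toLinearMap.rTensor _ z) = g.hom (cd B i z) := by
    intro B B' g i z
    induction z using TensorProduct.induction_on with
    | zero => simp [cd]
    | tmul b m => simp [cd]
    | add z w hz hw =>
      simp only [cd] at hz hw ⊢
      simp only [map_add, hz, hw]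
  have hsum : ∀ (B : Adeq.Alg A) (z : (B : Type u) ⊗[A] (fr A n)),
      z = ∑ i, cd B i z ⊗ₜ[A] (ULift.up (Pi.single i 1) : fr A n) := by
    intro B z
    induction z using TensorProduct.induction_on with
    | zero => simp [cd]
    | add z w hz hw =>
      simp only [cd, map_add, TensorProduct.add_tmul, Finset.sum_add_distrib] at hz hw ⊢
      rw [← hz, ← hw]
    | tmul b m =>
      simp only [cd, LinearMap.lTensor_tmul, TensorProduct.rid_tmul, TensorProduct.smul_tmul, ← TensorProduct.tmul_sum]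
      congr 1
      obtain ⟨f⟩ := m
      refine ULift.moduleEquiv.injective (R := A) ?_
      rw [map_sum]
      exact (pi_eq_sum_univ' f)
  have hfin : ∀ s : Finset (Fin n), ∃ (k : J) (f : j ⟶ k),
      ∀ i ∈ s, cd (D.obj k) i (el (fr A n) (D.obj k) (tr (U (fr A n)) (D.map f) x)) = 0 := by
    intro s
    induction s using Finset.induction with
    | empty => exact ⟨j, 𝟙 j, fun i hi => absurd hi (Finset.notMem_empty i)⟩
    | insert a s _ ih =>
      obtain ⟨k, f, hk⟩ := ih
      have h0 : (c.ι.app k).hom (cd (D.obj k) a (el (fr A n) (D.obj k) (tr (U (fr A n)) (D.map f) x))) = 0 := by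
        rw [← hnat, ← el_tr, ← tr_comp, c.w, h, map_zero]
        simp [cd]
      obtain ⟨l, g, hl⟩ := exists_elt_zero hc k _ h0
      refine ⟨l, f ≫ g, fun i hi => ?_⟩
      rw [D.map_comp, tr_comp, el_tr, hnat]
      rcases Finset.mem_insert.1 hi with rfl | hi
      · exact hl
      · rw [hk i hi, map_zero]
  obtain ⟨k, f, hk⟩ := hfin Finset.univ
  refine ⟨k, f, (el (fr A n) (D.obj k)).injective ?_⟩
  rw [map_zero, hsum _ (el (fr A n) (D.obj k) (tr (U (fr A n)) (D.map f) x))]
  exact Finset.sum_eq_zero fun i _ => by rw [hk i (Finset.mem_univ i), TensorProduct.zero_tmul]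

/-- Tensors vanishing in the colimit vanish at a stage. -/
theorem exists_tmul_zero (M : ModuleCat.{u + 1} A) (j : J) (x : (U M).obj (Adeq.pt (D.obj j)))
    (h : tr (U M) (c.ι.app j) x = 0) : ∃ (k : J) (f : j ⟶ k), tr (U M) (D.map f) x = 0 := by
  obtain ⟨r, b, mm, hsum⟩ := TensorProduct.exists_sum_tmul_eq (el M (D.obj j) x)
  let ψ : fr A r ⟶ M := ModuleCat.ofHom (Fintype.linearCombination A mm ∘ₗ ULift.moduleEquiv.toLinearMap)
  let z : (U (fr A r)).obj (Adeq.pt (D.obj j)) :=
    (el (fr A r) (D.obj j)).symm (∑ i, b i ⊗ₜ[A] (ULift.up (Pi.single i 1) : fr A r))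
  have hx : ap (uh ψ) (D.obj j) z = x := (el M (D.obj j)).injective (by
    rw [el_uh, LinearEquiv.apply_symm_apply, hsum, map_sum]
    refine Finset.sum_congr rfl fun i _ => ?_
    rw [LinearMap.baseChange_tmul]
    simp [ψ, Fintype.linearCombination_apply_single])
  obtain ⟨q, w, hw, hwz⟩ := exists_sq ψ c.pt (el (fr A r) c.pt (tr (U (fr A r)) (c.ι.app j) z))
    ((ap_uh_eq_zero_iff ψ _ _).1 (by rw [ap_tr, hx, h]))
  obtain ⟨i, w', hw'⟩ := exists_lift_tmul hc _ ((el (fr A q.n) c.pt).symm w)
  let k := IsFiltered.max i j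
  let w₁ := tr (U (fr A q.n)) (D.map (IsFiltered.leftToMax i j)) w'
  let z₁ := tr (U (fr A r)) (D.map (IsFiltered.rightToMax i j)) z
  have ha : tr (U (fr A q.m)) (c.ι.app k) (ap (uh q.a) (D.obj k) w₁) = 0 := by
    rw [← ap_tr, ← tr_comp, c.w, hw']
    exact (ap_uh_eq_zero_iff q.a c.pt _).2 (by rw [LinearEquiv.apply_symm_apply]; exact hw)
  obtain ⟨l, f, hl⟩ := exists_tmul_zero_free hc _ k _ ha
  have hd : tr (U (fr A r)) (c.ι.app l) (tr _ (D.map f) (ap (uh q.g) (D.obj k) w₁ - z₁)) = 0 := by
    rw [← tr_comp, c.w, map_sub, ← ap_tr, ← tr_comp, ← tr_comp, c.w, c.w, hw', sub_eq_zero]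
    exact (el (fr A r) c.pt).injective ((el_uh q.g c.pt _).trans (by rw [LinearEquiv.apply_symm_apply, hwz]))
  obtain ⟨p, g, hp⟩ := exists_tmul_zero_free hc _ l _ hd
  refine ⟨p, IsFiltered.rightToMax i j ≫ f ≫ g, ?_⟩
  rw [map_sub, map_sub, sub_eq_zero] at hp
  rw [← hx, D.map_comp, D.map_comp, tr_comp, tr_comp, ← ap_tr, ← ap_tr, ← ap_tr, ← hp, ← ap_tr, ← ap_tr,
    ← ap_comp (uh q.g), ← Functor.map_comp, q.w, Functor.map_comp, ap_comp, ap_tr, ap_tr, ap_tr, hl, map_zero, map_zero]

/-- Adequate functors commute with filtered colimits. -/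
theorem isColimit_toAb_mapCocone {F : Adeq.MVF A} (hF : Adeq.adequate A F) :
    Nonempty (IsColimit (F.toAb.mapCocone c)) := by
  obtain ⟨M, N, φ, ⟨e⟩⟩ := hF
  have hinj : ∀ B, Function.Injective fun x => ap (kernel.ι (uh φ)) B (ap e.hom B x) := fun B x y h => by
    have h1 := congrArg (ap e.inv B) (kernel_ι_injective (uh φ) B h)
    rwa [← ap_comp e.hom, ← ap_comp e.hom, e.hom_inv_id] at h1
  refine ⟨isColimitOfJointly _ (fun x => ?_) fun j y hy => ?_⟩
  · let x₀ : F.obj (Adeq.pt c.pt) := x
    obtain ⟨q, w, hw, hwx⟩ := exists_sq φ c.pt (el M c.pt (ap (kernel.ι (uh φ)) c.pt (ap e.hom c.pt x₀)))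
      ((ap_uh_eq_zero_iff φ _ _).1 (kernel_condition_apply _ _ _))
    obtain ⟨i, w', hw'⟩ := exists_lift_tmul hc _ ((el (fr A q.n) c.pt).symm w)
    have ha : tr (U (fr A q.m)) (c.ι.app i) (ap (uh q.a) (D.obj i) w') = 0 := by
      rw [← ap_tr, hw']
      exact (ap_uh_eq_zero_iff q.a c.pt _).2 (by rw [LinearEquiv.apply_symm_apply]; exact hw)
    obtain ⟨l, f, hl⟩ := exists_tmul_zero_free hc _ i _ ha
    obtain ⟨v, hv⟩ := exists_kernel_lift (uh φ) _ (ap (uh q.g) (D.obj l) (tr _ (D.map f) w')) (by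
      rw [← ap_comp (uh q.g), ← Functor.map_comp, q.w, Functor.map_comp, ap_comp, ap_tr, hl, map_zero])
    refine ⟨l, ap e.inv (D.obj l) v, ?_⟩
    change tr F (c.ι.app l) (ap e.inv (D.obj l) v) = x₀
    refine hinj _ ?_
    dsimp only
    rw [← ap_tr, ← ap_comp e.inv, e.inv_hom_id]
    change ap (kernel.ι (uh φ)) c.pt (tr _ (c.ι.app l) v) = _
    rw [ap_tr, hv, ← ap_tr, ← tr_comp, c.w, hw']
    exact (el M c.pt).injective ((el_uh q.g c.pt _).trans (by rw [LinearEquiv.apply_symm_apply, hwx]; rfl))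
  · obtain ⟨y, rfl⟩ : ∃ y₀ : F.obj (Adeq.pt (D.obj j)), y₀ = y := ⟨y, rfl⟩
    obtain ⟨k, f, hk⟩ := exists_tmul_zero hc M j (ap (kernel.ι (uh φ)) (D.obj j) (ap e.hom (D.obj j) y)) (by
      rw [← ap_tr, ← ap_tr, show tr F (c.ι.app j) y = 0 from hy, map_zero, map_zero])
    refine ⟨k, f, hinj _ ?_⟩
    dsimp only
    change ap (kernel.ι (uh φ)) (D.obj k) (ap e.hom (D.obj k) (tr F (D.map f) y)) = _
    rw [ap_tr, ap_tr, hk]
    exact ((congrArg (ap (kernel.ι (uh φ)) (D.obj k)) (map_zero (ap e.hom (D.obj k)))).trans (map_zero _)).symm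

end AdeqLib
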