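import Groth.Agent.AdeqLib.ChangeRing
import Groth.Agent.AdeqLib.Abelian

/-!
Adequacy descends along a ring map for which the functor satisfies the sheaf condition.
-/

set_option autoImplicit false
universe u

open CategoryTheory Limits TensorProduct

noncomputable section

namespace AdeqLib

variable {A A' : Type u} [CommRing A] [CommRing A'] [Algebra A A']

theorem tr_comp (F : Adeq.MVF A) {B B' B'' : Adeq.Alg A} (f : B ⟶ B') (g : B' ⟶ B'') (x : F.obj (Adeq.pt B)) :
    tr F (f ≫ g) x = tr F g (tr F f x) :=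
  PresheafOfModules.map_comp_apply F (Adeq.ptHom f) (Adeq.ptHom g) x

theorem unit_nat {B B' : Adeq.Alg A} (h : B ⟶ B') :
    h ≫ Adeq.Alg.unit A A' B' = Adeq.Alg.unit A A' B ≫ (Adeq.Alg.restr A A').map ((Adeq.Alg.baseChange A A').map h) := by
  apply CommAlgCat.hom_ext
  refine DFunLike.ext _ _ fun b => ?_
  change (1 : A') ⊗ₜ[A] h.hom b = Algebra.TensorProduct.map (AlgHom.id A' A') h.hom ((1 : A') ⊗ₜ[A] b)
  rw [Algebra.TensorProduct.map_tmul]
  rfl

variable (A') in
/-- The unit of restriction and direct image. -/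
def etaPR (F : Adeq.MVF A) : F ⟶ (Adeq.push A A').obj ((Adeq.restr A A').obj F) :=
  mkHom (fun B => tr F (Adeq.Alg.unit A A' B)) (fun B b x => tr_smul F (Adeq.Alg.unit A A' B) b x)
    (fun {B B'} h x => by
      refine ((tr_comp F h (Adeq.Alg.unit A A' B') x).symm.trans ?_)
      rw [unit_nat h, tr_comp]
      rfl)

theorem adequate_descent (F : Adeq.MVF A) (h₁ : Adeq.adequate A' ((Adeq.restr A A').obj F))
    (hinj : ∀ B : Adeq.Alg A, Function.Injective (tr F (Adeq.Alg.unit A A' B)))
    (heq : ∀ B : Adeq.Alg A, ∀ y : F.obj (Adeq.pt (rB (pB A' B))),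
      tr F (Adeq.Alg.unit A A' (rB (pB A' B))) y =
          tr F ((Adeq.Alg.restr A A').map ((Adeq.Alg.baseChange A A').map (Adeq.Alg.unit A A' B))) y →
        ∃ x, tr F (Adeq.Alg.unit A A' B) x = y) : Adeq.adequate A F := by
  let G : Adeq.MVF A := (Adeq.push A A').obj ((Adeq.restr A A').obj F)
  let G₂ : Adeq.MVF A := (Adeq.push A A').obj ((Adeq.restr A A').obj G)
  have hG : Adeq.adequate A G := adequate_push h₁
  let d₁ : G ⟶ G₂ := (Adeq.push A A').map ((Adeq.restr A A').map (etaPR A' F))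
  let d : G ⟶ G₂ := (show G ⟶ G₂ from etaPR A' G) - d₁
  have hd : ∀ (B : Adeq.Alg A) (y : G.obj (Adeq.pt B)), ap d B y =
      ap (show G ⟶ G₂ from etaPR A' G) B y - ap d₁ B y := fun B y => rfl
  have hc : etaPR A' F ≫ d = 0 := hom_ext fun B x => by
    rw [ap_comp, hd, ap_zero, sub_eq_zero]
    exact (ap_tr (etaPR A' F) (Adeq.Alg.unit A A' B) x).symm
  have hiso : IsIso (kernel.lift d (etaPR A' F) hc) := by
    refine isIso_of_bijective _ fun B => ⟨fun x y hxy => hinj B ?_, fun z => ?_⟩
    · exact (congrArg (fun f => ap f B x) (kernel.lift_ι d (etaPR A' F) hc)).symm.trans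
        ((congrArg (ap (kernel.ι d) B) hxy).trans (congrArg (fun f => ap f B y) (kernel.lift_ι d (etaPR A' F) hc)))
    · have hz := (hd B (ap (kernel.ι d) B z)).symm.trans (kernel_condition_apply d B z)
      obtain ⟨x, hx⟩ := heq B (ap (kernel.ι d) B z) (sub_eq_zero.1 hz).symm
      refine ⟨x, kernel_ι_injective d B ?_⟩
      exact (congrArg (fun f => ap f B x) (kernel.lift_ι d (etaPR A' F) hc)).trans hx
  exact (Adeq.adequate A).prop_of_iso (asIso (kernel.lift d (etaPR A' F) hc)).symm
    (adequate_kernel d hG (adequate_push (adequate_restr hG)))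

end AdeqLib
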