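import Groth.Agent.AdeqLib.Split
import Groth.Agent.AdeqLib.Abelian

/-!
Extensions of adequate functors are adequate.
-/

set_option autoImplicit false
set_option maxHeartbeats 800000
universe u

open CategoryTheory Limits TensorProduct

noncomputable section

namespace AdeqLib

variable {A : Type u} [CommRing A]

theorem ap_uh_add {M N : ModuleCat.{u + 1} A} (f g : M ⟶ N) (B : Adeq.Alg A) (x : (U M).obj (Adeq.pt B)) :
    ap (uh (f + g)) B x = ap (uh f) B x + ap (uh g) B x := by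
  refine (el N B).injective ?_
  rw [map_add, el_uh, el_uh, el_uh, show (f + g).hom = f.hom + g.hom from rfl, LinearMap.baseChange_add]
  rfl

theorem ap_uh_comp {M N L : ModuleCat.{u + 1} A} (f : M ⟶ N) (g : N ⟶ L) (B : Adeq.Alg A)
    (x : (U M).obj (Adeq.pt B)) : ap (uh g) B (ap (uh f) B x) = ap (uh (f ≫ g)) B x := by
  rw [← ap_comp, ← Functor.map_comp]

theorem ap_uh_zero {M N : ModuleCat.{u + 1} A} (B : Adeq.Alg A) (x : (U M).obj (Adeq.pt B)) :
    ap (uh (0 : M ⟶ N)) B x = 0 := by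
  refine (el N B).injective ?_
  rw [el_uh, ModuleCat.hom_zero, LinearMap.baseChange_zero, map_zero]
  rfl

theorem ap_uh_id {M : ModuleCat.{u + 1} A} (B : Adeq.Alg A) (x : (U M).obj (Adeq.pt B)) :
    ap (uh (𝟙 M)) B x = x := by
  rw [uh, CategoryTheory.Functor.map_id]
  rfl

section Biprod

variable {X Y Z : Adeq.MVF A} (B : Adeq.Alg A)

theorem inl_fst_apply (x : X.obj (Adeq.pt B)) :
    ap (biprod.fst : X ⊞ Y ⟶ X) B (ap (biprod.inl : X ⟶ X ⊞ Y) B x) = x :=
  congrArg (fun k => ap k B x) (biprod.inl_fst (X := X) (Y := Y))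

theorem inl_snd_apply (x : X.obj (Adeq.pt B)) :
    ap (biprod.snd : X ⊞ Y ⟶ Y) B (ap (biprod.inl : X ⟶ X ⊞ Y) B x) = 0 :=
  congrArg (fun k => ap k B x) (biprod.inl_snd (X := X) (Y := Y))

theorem inr_fst_apply (y : Y.obj (Adeq.pt B)) :
    ap (biprod.fst : X ⊞ Y ⟶ X) B (ap (biprod.inr : Y ⟶ X ⊞ Y) B y) = 0 :=
  congrArg (fun k => ap k B y) (biprod.inr_fst (X := X) (Y := Y))

theorem inr_snd_apply (y : Y.obj (Adeq.pt B)) :
    ap (biprod.snd : X ⊞ Y ⟶ Y) B (ap (biprod.inr : Y ⟶ X ⊞ Y) B y) = y :=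
  congrArg (fun k => ap k B y) (biprod.inr_snd (X := X) (Y := Y))

theorem biprod_eq (w : (X ⊞ Y).obj (Adeq.pt B)) :
    ap (biprod.inl : X ⟶ X ⊞ Y) B (ap (biprod.fst : X ⊞ Y ⟶ X) B w) +
      ap (biprod.inr : Y ⟶ X ⊞ Y) B (ap (biprod.snd : X ⊞ Y ⟶ Y) B w) = w :=
  congrArg (fun k => ap k B w) (biprod.total (X := X) (Y := Y))

theorem desc_apply (f : X ⟶ Z) (g : Y ⟶ Z) (w : (X ⊞ Y).obj (Adeq.pt B)) :
    ap (biprod.desc f g) B w =
      ap f B (ap (biprod.fst : X ⊞ Y ⟶ X) B w) + ap g B (ap (biprod.snd : X ⊞ Y ⟶ Y) B w) := by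
  rw [biprod.desc_eq]
  rfl

end Biprod

/-- A functor which is the sum of a functor of a module and a kernel is adequate. -/
theorem adequate_of_split {X : Adeq.MVF A} {M P P' : ModuleCat.{u + 1} A} (φ : P ⟶ P') (i : U M ⟶ X)
    (q : X ⟶ kernel (uh φ)) (s : kernel (uh φ) ⟶ X) (r : X ⟶ U M) (h1 : i ≫ r = 𝟙 _) (h2 : s ≫ q = 𝟙 _)
    (h3 : i ≫ q = 0) (h4 : s ≫ r = 0) (h5 : r ≫ i + q ≫ s = 𝟙 X) : Adeq.adequate A X := by
  let a : M ⟶ ModuleCat.of A (M × P) := ModuleCat.ofHom (LinearMap.inl A M P)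
  let b : P ⟶ ModuleCat.of A (M × P) := ModuleCat.ofHom (LinearMap.inr A M P)
  let a' : ModuleCat.of A (M × P) ⟶ M := ModuleCat.ofHom (LinearMap.fst A M P)
  let b' : ModuleCat.of A (M × P) ⟶ P := ModuleCat.ofHom (LinearMap.snd A M P)
  have haa : a ≫ a' = 𝟙 _ := rfl
  have hbb : b ≫ b' = 𝟙 _ := rfl
  have hab : a ≫ b' = 0 := rfl
  have hba : b ≫ a' = 0 := rfl
  have htot : a' ≫ a + b' ≫ b = 𝟙 _ := by
    ext : 1
    exact LinearMap.ext fun x => by simp [a, b, a', b']
  let ι : X ⟶ U (ModuleCat.of A (M × P)) := r ≫ uh a + q ≫ kernel.ι (uh φ) ≫ uh b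
  have hι : ∀ B x, ap ι B x = ap (uh a) B (ap r B x) + ap (uh b) B (ap (kernel.ι (uh φ)) B (ap q B x)) :=
    fun B x => rfl
  have hx : ∀ (B : Adeq.Alg A) x, ap i B (ap r B x) + ap s B (ap q B x) = x := fun B x =>
    congrArg (fun k => ap k B x) h5
  refine adequate_of_embedding ι (b' ≫ φ) (fun B => (injective_iff_map_eq_zero _).2 fun x hx0 => ?_) (fun B x => ?_)
    fun B z hz => ?_
  · rw [hι] at hx0
    have hr : ap r B x = 0 := by
      have := congrArg (ap (uh a') B) hx0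
      rwa [map_add, ap_uh_comp, ap_uh_comp, haa, hba, ap_uh_id, ap_uh_zero, add_zero, map_zero] at this
    have hq : ap q B x = 0 := kernel_ι_injective (uh φ) B (by
      have := congrArg (ap (uh b') B) hx0
      rwa [map_add, ap_uh_comp, ap_uh_comp, hab, hbb, ap_uh_id, ap_uh_zero, zero_add, map_zero,
        ← map_zero (ap (kernel.ι (uh φ)) B)] at this)
    rw [← hx B x, hr, hq, map_zero, map_zero, add_zero]
  · rw [← ap_uh_comp, hι, map_add, ap_uh_comp, ap_uh_comp, hab, hbb, ap_uh_id, ap_uh_zero, zero_add,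
      kernel_condition_apply]
  · rw [← ap_uh_comp] at hz
    obtain ⟨y, hy⟩ := exists_kernel_lift (uh φ) B _ hz
    refine ⟨ap i B (ap (uh a') B z) + ap s B y, ?_⟩
    rw [map_add, hι, hι, ← ap_comp i r, h1, ← ap_comp i q, h3, ← ap_comp s r, h4, ← ap_comp s q, h2, ap_zero, ap_zero,
      map_zero, map_zero, add_zero, map_zero, zero_add]
    change ap (uh a) B (ap (uh a') B z) + ap (uh b) B (ap (kernel.ι (uh φ)) B y) = z
    rw [hy, ap_uh_comp, ap_uh_comp, ← ap_uh_add, htot, ap_uh_id]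

/-- Maps from linearly adequate functors lift through surjections whose kernel is a functor of a module. -/
theorem exists_lift_of_finite {M P P' : ModuleCat.{u + 1} A} [Module.Finite A P] [Module.Free A P]
    [Module.Finite A P'] [Module.Free A P'] (φ₀ : P ⟶ P') {G H : Adeq.MVF A} (i : U M ⟶ G) (g : G ⟶ H)
    (hi : ∀ B, Function.Injective (ap i B)) (hig : ∀ B x, ap g B (ap i B x) = 0)
    (hex : ∀ B x, ap g B x = 0 → ∃ y, ap i B y = x) (hg : ∀ B, Function.Surjective (ap g B))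
    (π : kernel (uh φ₀) ⟶ H) : ∃ l : kernel (uh φ₀) ⟶ G, l ≫ g = π := by
  let d : G ⊞ kernel (uh φ₀) ⟶ H := biprod.desc g (-π)
  let κ : kernel d ⟶ G ⊞ kernel (uh φ₀) := kernel.ι d
  let p₁ : G ⊞ kernel (uh φ₀) ⟶ G := biprod.fst
  let p₂ : G ⊞ kernel (uh φ₀) ⟶ kernel (uh φ₀) := biprod.snd
  have hd : ∀ B x, ap d B x = ap g B (ap p₁ B x) - ap π B (ap p₂ B x) := fun B x => by
    rw [desc_apply, sub_eq_add_neg]
    rfl
  let iE : U M ⟶ kernel d := kernel.lift d (i ≫ biprod.inl) (hom_ext fun B x => by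
    rw [ap_comp, ap_comp, hd, inl_fst_apply, inl_snd_apply, hig, map_zero, sub_zero, ap_zero])
  let pE : kernel d ⟶ kernel (uh φ₀) := κ ≫ p₂
  have hiE : ∀ B x, ap κ B (ap iE B x) = ap (biprod.inl : G ⟶ G ⊞ kernel (uh φ₀)) B (ap i B x) := fun B x =>
    congrArg (fun k => ap k B x) (kernel.lift_ι d _ _)
  have hκ : ∀ (B : Adeq.Alg A) z, ap g B (ap p₁ B (ap κ B z)) = ap π B (ap pE B z) := fun B z =>
    sub_eq_zero.1 ((hd B _).symm.trans (kernel_condition_apply d B z))
  have hsurj : ∀ B, Function.Surjective (ap pE B) := fun B y => by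
    obtain ⟨x, hx⟩ := hg B (ap π B y)
    obtain ⟨w, hw⟩ := exists_kernel_lift d B
      (ap (biprod.inl : G ⟶ G ⊞ kernel (uh φ₀)) B x + ap (biprod.inr : kernel (uh φ₀) ⟶ G ⊞ kernel (uh φ₀)) B y) (by
      rw [hd, map_add (ap p₁ B), map_add (ap p₂ B), inl_fst_apply, inl_snd_apply, inr_fst_apply, inr_snd_apply, add_zero, zero_add]
      exact sub_eq_zero.2 hx)
    refine ⟨w, ?_⟩
    rw [show ap pE B w = ap p₂ B (ap κ B w) from rfl, hw, map_add, inl_snd_apply, inr_snd_apply, zero_add]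
  have hker : ∀ B z, ap pE B z = 0 → ∃ x, ap iE B x = z := fun B z hz => by
    obtain ⟨x, hx⟩ := hex B (ap p₁ B (ap κ B z)) (by rw [hκ, hz, map_zero])
    refine ⟨x, kernel_ι_injective d B ?_⟩
    change ap κ B _ = ap κ B z
    rw [hiE, hx]
    conv_rhs => rw [← biprod_eq B (ap κ B z), show ap biprod.snd B (ap κ B z) = 0 from hz, map_zero, add_zero]
  have hinj : ∀ B, Function.Injective (ap iE B) := fun B x y h => hi B (by
    have h1 := congrArg (fun z => ap p₁ B (ap κ B z)) h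
    simp only [hiE] at h1
    exact (inl_fst_apply B _).symm.trans (h1.trans (inl_fst_apply B _)))
  have hzero : ∀ B x, ap pE B (ap iE B x) = 0 := fun B x =>
    (congrArg (ap p₂ B) (hiE B x)).trans (inl_snd_apply B _)
  refine ⟨secHom iE pE hinj hzero hker hsurj ≫ κ ≫ p₁, hom_ext fun B y => ?_⟩
  rw [ap_comp, ap_comp, ap_comp, hκ, ← ap_comp _ pE, secHom_comp]
  rfl

/-- Extensions of adequate functors are adequate. -/
theorem adequate_of_shortExact {S : ShortComplex (Adeq.MVF A)} (hS : S.ShortExact) (h₁ : Adeq.adequate A S.X₁)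
    (h₃ : Adeq.adequate A S.X₃) : Adeq.adequate A S.X₂ := by
  obtain ⟨M, N, ιF, ψ, hinj, -, -⟩ := exists_embedding h₁
  have hf := (mono_iff S.f).1 hS.mono_f
  have hg := (epi_iff S.g).1 hS.epi_g
  have hexS := (exact_iff S).1 hS.exact
  let X₀ : Adeq.MVF A := S.X₂ ⊞ U M
  let δ : S.X₁ ⟶ X₀ := biprod.lift S.f (-ιF)
  let G₁ : Adeq.MVF A := cokernel δ
  let inG : S.X₂ ⟶ G₁ := biprod.inl ≫ cokernel.π δ
  let inM : U M ⟶ G₁ := biprod.inr ≫ cokernel.π δ
  let g₁ : G₁ ⟶ S.X₃ := cokernel.desc δ (biprod.fst ≫ S.g) (by rw [biprod.lift_fst_assoc, S.zero])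
  let c₁ : G₁ ⟶ cokernel ιF := cokernel.desc δ (biprod.snd ≫ cokernel.π ιF) (by
    rw [biprod.lift_snd_assoc, Preadditive.neg_comp, cokernel.condition, neg_zero])
  have hfst : ∀ B x, ap (biprod.fst : X₀ ⟶ _) B (ap δ B x) = ap S.f B x := fun B x => by
    rw [← ap_comp δ, biprod.lift_fst]
  have hsnd : ∀ B x, ap (biprod.snd : X₀ ⟶ _) B (ap δ B x) = -ap ιF B x := fun B x => by
    rw [← ap_comp δ, biprod.lift_snd]
    rfl
  have hcok : ∀ B z, ap (cokernel.π δ) B z = 0 → ∃ x, ap δ B x = z :=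
    (exact_iff (ShortComplex.mk δ (cokernel.π δ) (cokernel.condition δ))).1 (ShortComplex.exact_cokernel δ)
  have hrel : S.f ≫ inG = ιF ≫ inM := by
    have h : (S.f ≫ biprod.inl + (-ιF) ≫ biprod.inr) ≫ cokernel.π δ = 0 := by
      rw [← show δ = S.f ≫ biprod.inl + (-ιF) ≫ biprod.inr from biprod.lift_eq, cokernel.condition]
    rwa [Preadditive.add_comp, Preadditive.neg_comp, Preadditive.neg_comp, add_neg_eq_zero, Category.assoc,
      Category.assoc] at h
  have hMg : inM ≫ g₁ = 0 := by rw [Category.assoc, cokernel.π_desc, biprod.inr_fst_assoc, zero_comp]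
  have hGg : inG ≫ g₁ = S.g := by rw [Category.assoc, cokernel.π_desc, biprod.inl_fst_assoc]
  have hGc : inG ≫ c₁ = 0 := by rw [Category.assoc, cokernel.π_desc, biprod.inl_snd_assoc, zero_comp]
  have hMc : inM ≫ c₁ = cokernel.π ιF := by rw [Category.assoc, cokernel.π_desc, biprod.inr_snd_assoc]
  have hdec : ∀ B z, ∃ g m, z = ap inG B g + ap inM B m := fun B z => by
    obtain ⟨w, rfl⟩ := (epi_iff (cokernel.π δ)).1 inferInstance B z
    refine ⟨ap biprod.fst B w, ap biprod.snd B w, ?_⟩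
    conv_lhs => rw [← biprod_eq B w, map_add]
    rfl
  have hMinj : ∀ B, Function.Injective (ap inM B) := fun B => (injective_iff_map_eq_zero _).2 fun m hm => by
    obtain ⟨x, hx⟩ := hcok B (ap biprod.inr B m) hm
    have h1 := hfst B x
    rw [hx, inr_fst_apply, ← map_zero (ap S.f B)] at h1
    have h2 := hsnd B x
    rw [hx, inr_snd_apply, ← hf B h1, map_zero, neg_zero] at h2
    exact h2
  have hGinj : ∀ B, Function.Injective (ap inG B) := fun B => (injective_iff_map_eq_zero _).2 fun m hm => by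
    obtain ⟨x, hx⟩ := hcok B (ap biprod.inl B m) hm
    have h2 := hsnd B x
    rw [hx, inl_snd_apply, eq_comm, neg_eq_zero, ← map_zero (ap ιF B)] at h2
    have h1 := hfst B x
    rw [hx, inl_fst_apply, hinj B h2, map_zero] at h1
    exact h1
  have hex₁ : ∀ B z, ap g₁ B z = 0 → ∃ m, ap inM B m = z := fun B z hz => by
    obtain ⟨g, m, rfl⟩ := hdec B z
    rw [map_add, ← ap_comp inG, hGg, ← ap_comp inM, hMg, ap_zero, add_zero] at hz
    obtain ⟨x, rfl⟩ := hexS B g hz
    refine ⟨ap ιF B x + m, ?_⟩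
    rw [map_add, ← ap_comp ιF, ← hrel, ap_comp]
  have hg₁ : ∀ B, Function.Surjective (ap g₁ B) := fun B y => by
    obtain ⟨x, hx⟩ := hg B y
    exact ⟨ap inG B x, by rw [← ap_comp inG, hGg, hx]⟩
  obtain ⟨c, π, hπ⟩ := exists_cover h₃
  choose l hl using fun j => exists_lift_of_finite (c.a j) inM g₁ hMinj
    (fun B x => by rw [← ap_comp, hMg, ap_zero]) hex₁ hg₁ (kin _ _ c.a j ≫ π)
  let L : c.K ⟶ G₁ := descK l
  have hL : L ≫ g₁ = π := dker_hom_ext _ _ c.a fun j => by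
    rw [← Category.assoc, kin_descK, hl]
  have hGiso : IsIso (kernel.lift c₁ inG hGc) := isIso_of_bijective _ fun B => by
    refine ⟨fun x y h => hGinj B ?_, fun z => ?_⟩
    · rw [← kernel.lift_ι c₁ inG hGc, ap_comp, ap_comp, h]
    · obtain ⟨g, m, h⟩ := hdec B (ap (kernel.ι c₁) B z)
      have h0 := kernel_condition_apply c₁ B z
      rw [h, map_add, ← ap_comp inG, hGc, ap_zero, zero_add, ← ap_comp inM, hMc] at h0
      obtain ⟨x, rfl⟩ := (exact_iff (ShortComplex.mk ιF (cokernel.π ιF) (cokernel.condition ιF))).1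
        (ShortComplex.exact_cokernel ιF) B m h0
      refine ⟨g + ap S.f B x, kernel_ι_injective c₁ B ?_⟩
      rw [← ap_comp _ (kernel.ι c₁), kernel.lift_ι, map_add, ← ap_comp S.f, hrel, ap_comp, h]
      rfl
  have hUM : ∀ M' : ModuleCat.{u + 1} A, Adeq.adequate A (U M') := fun M' => by
    refine adequate_of_embedding (𝟙 _) (0 : M' ⟶ M') (fun B => Function.injective_id) (fun B x => ap_uh_zero B _)
      (fun B x _ => ⟨x, rfl⟩)
  have hG₁ : Adeq.adequate A G₁ := by
    have hexM := (exact_iff (ShortComplex.mk inM g₁ hMg)).2 hex₁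
    have : Mono inM := (mono_iff _).2 hMinj
    let t : kernel π ⟶ U M := hexM.lift (kernel.ι π ≫ L) (by
      rw [Category.assoc, hL, kernel.condition])
    have ht : t ≫ inM = kernel.ι π ≫ L := hexM.lift_f _ _
    let Φ : U M ⊞ c.K ⟶ G₁ := biprod.desc inM L
    let σ : kernel π ⟶ U M ⊞ c.K := biprod.lift (-t) (kernel.ι π)
    have hσ : σ ≫ Φ = 0 := by rw [biprod.lift_desc, Preadditive.neg_comp, ht, neg_add_cancel]
    have hΦ : ∀ B x, ap Φ B x = ap inM B (ap (biprod.fst : U M ⊞ c.K ⟶ _) B x) +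
        ap L B (ap (biprod.snd : U M ⊞ c.K ⟶ _) B x) := fun B x => by
      exact desc_apply B inM L x
    have hiso : IsIso (cokernel.desc σ Φ hσ) := isIso_of_bijective _ fun B => by
      refine ⟨(injective_iff_map_eq_zero _).2 fun y hy => ?_, fun z => ?_⟩
      · obtain ⟨x, rfl⟩ := (epi_iff (cokernel.π σ)).1 inferInstance B y
        rw [← ap_comp, cokernel.π_desc, hΦ] at hy
        have h1 := congrArg (ap g₁ B) hy
        rw [map_add, ← ap_comp inM, hMg, ap_zero, zero_add, ← ap_comp L, hL, map_zero] at h1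
        obtain ⟨w, hw⟩ := exists_kernel_lift π B _ h1
        rw [← hw, ← ap_comp (kernel.ι π) L, ← ht] at hy
        change ap inM B _ + ap inM B (ap t B w) = 0 at hy
        rw [← map_add, ← map_zero (ap inM B)] at hy
        have h2 := eq_neg_of_add_eq_zero_left (hMinj B hy)
        have hx : x = ap σ B w := by
          rw [show σ = (-t) ≫ biprod.inl + kernel.ι π ≫ biprod.inr from biprod.lift_eq]
          conv_lhs => rw [← biprod_eq B x, h2, ← hw]
          rfl
        rw [hx, ← ap_comp σ, cokernel.condition, ap_zero]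
      · obtain ⟨k, hk⟩ := (epi_iff π).1 hπ B (ap g₁ B z)
        obtain ⟨m, hm⟩ := hex₁ B (z - ap L B k) (by rw [map_sub, ← ap_comp L, hL, hk, sub_self])
        refine ⟨ap (cokernel.π σ) B (ap biprod.inl B m + ap biprod.inr B k), ?_⟩
        rw [← ap_comp (cokernel.π σ), cokernel.π_desc, hΦ, map_add (ap biprod.fst B), map_add (ap biprod.snd B), inl_fst_apply, inr_fst_apply, inl_snd_apply,
          inr_snd_apply, add_zero, zero_add, hm, sub_add_cancel]
    have hK : Adeq.adequate A c.K := ⟨_, _, c.map, ⟨Iso.refl _⟩⟩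
    exact (Adeq.adequate A).prop_of_iso (asIso (cokernel.desc σ Φ hσ)) (adequate_cokernel σ
      (adequate_kernel π hK h₃)
      (adequate_of_split c.map biprod.inl biprod.snd biprod.inr biprod.fst biprod.inl_fst biprod.inr_snd biprod.inl_snd
        biprod.inr_fst biprod.total))
  exact (Adeq.adequate A).prop_of_iso (asIso (kernel.lift c₁ inG hGc)).symm
    (adequate_kernel c₁ hG₁ (adequate_cokernel ιF h₁ (hUM M)))

end AdeqLib
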