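import Groth.Agent.AdeqLib.FamilyDescent

/-!
Cocycles of adequate functors along faithful families are coboundaries.
-/

set_option autoImplicit false
set_option maxHeartbeats 800000
universe u

open CategoryTheory Limits TensorProduct

noncomputable section

namespace AdeqLib

variable {A : Type u} [CommRing A] {κ : Type} [Finite κ] (R : κ → Type u) [∀ k, CommRing (R k)] [∀ k, Algebra A (R k)]

variable (A) in
/-- The first map to a double overlap. -/
abbrev incL (l k : κ) : R l →ₐ[A] R l ⊗[A] R k := Algebra.TensorProduct.includeLeft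

variable (A) in
/-- The second map to a double overlap. -/
abbrev incR (l k : κ) : R k →ₐ[A] R l ⊗[A] R k := Algebra.TensorProduct.includeRight

variable (A) in
/-- The map to a triple overlap forgetting the first index. -/
abbrev inc₀ (j l k : κ) : R l ⊗[A] R k →ₐ[A] R j ⊗[A] (R l ⊗[A] R k) := Algebra.TensorProduct.includeRight

variable (A) in
/-- The map to a triple overlap forgetting the middle index. -/
abbrev inc₁ (j l k : κ) : R j ⊗[A] R k →ₐ[A] R j ⊗[A] (R l ⊗[A] R k) :=
  Algebra.TensorProduct.map (AlgHom.id A (R j)) (incR A R l k)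

variable (A) in
/-- The map to a triple overlap forgetting the last index. -/
abbrev inc₂ (j l k : κ) : R j ⊗[A] R l →ₐ[A] R j ⊗[A] (R l ⊗[A] R k) :=
  Algebra.TensorProduct.map (AlgHom.id A (R j)) (incL A R l k)

/-- Cocycles with values in a module are coboundaries. -/
theorem family_h1_module (hR : FaithfulFamily A R) (M : Type (u + 1)) [AddCommGroup M] [Module A M]
    (c : ∀ l k, (R l ⊗[A] R k) ⊗[A] M)
    (hc : ∀ j l k, (inc₀ A R j l k).toLinearMap.rTensor M (c l k) =
      (inc₁ A R j l k).toLinearMap.rTensor M (c j k) - (inc₂ A R j l k).toLinearMap.rTensor M (c j l)) :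
    ∃ e : ∀ k, R k ⊗[A] M, ∀ l k,
      c l k = (incR A R l k).toLinearMap.rTensor M (e k) - (incL A R l k).toLinearMap.rTensor M (e l) := by
  classical
  have := Fintype.ofFinite κ
  let δ : (∀ k, R k ⊗[A] M) →ₗ[A] (∀ p : κ × κ, (R p.1 ⊗[A] R p.2) ⊗[A] M) :=
    LinearMap.pi fun p => (incR A R p.1 p.2).toLinearMap.rTensor M ∘ₗ LinearMap.proj p.2 -
      (incL A R p.1 p.2).toLinearMap.rTensor M ∘ₗ LinearMap.proj p.1
  let c' : ∀ p : κ × κ, (R p.1 ⊗[A] R p.2) ⊗[A] M := fun p => c p.1 p.2
  suffices hx : (LinearMap.range δ).mkQ c' = 0 by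
    obtain ⟨e, he⟩ := (Submodule.Quotient.mk_eq_zero (LinearMap.range δ)).1 hx
    exact ⟨e, fun l k => (congrFun he (l, k)).symm⟩
  refine hR _ _ fun j => ?_
  have hsum : ∀ z : R j ⊗[A] (∀ p : κ × κ, (R p.1 ⊗[A] R p.2) ⊗[A] M),
      z = ∑ p, (LinearMap.single A (fun p : κ × κ => (R p.1 ⊗[A] R p.2) ⊗[A] M) p).lTensor (R j)
        ((LinearMap.proj p).lTensor (R j) z) := by
    intro z
    induction z using TensorProduct.induction_on with
    | zero => simp
    | tmul r y =>
      simp only [LinearMap.lTensor_tmul, ← TensorProduct.tmul_sum]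
      congr 1
      exact (Finset.univ_sum_single y).symm
    | add z w hz hw =>
      simp only [map_add, Finset.sum_add_distrib]
      rw [← hz, ← hw]
  let as : ∀ k, (R j ⊗[A] R k) ⊗[A] M →ₗ[A] R j ⊗[A] (∀ k, R k ⊗[A] M) := fun k =>
    (LinearMap.single A (fun k => R k ⊗[A] M) k).lTensor (R j) ∘ₗ (TensorProduct.assoc A (R j) (R k) M).toLinearMap
  let z := ∑ k, as k (c j k)
  have hproj : ∀ k, (LinearMap.proj k).lTensor (R j) z = TensorProduct.assoc A (R j) (R k) M (c j k) := by
    intro k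
    simp only [z, map_sum, as, LinearMap.comp_apply, ← LinearMap.lTensor_comp_apply]
    rw [Finset.sum_eq_single k]
    · rw [LinearMap.proj_comp_single_same, LinearMap.lTensor_id]
      rfl
    · intro i _ hi
      rw [LinearMap.proj_comp_single_ne _ _ _ _ (Ne.symm hi), LinearMap.lTensor_zero, LinearMap.zero_apply]
    · intro h
      exact absurd (Finset.mem_univ k) h
  have hass : ∀ {X Y : Type u} [CommRing X] [Algebra A X] [CommRing Y] [Algebra A Y] (f : X →ₐ[A] Y)
      (w : (R j ⊗[A] X) ⊗[A] M),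
      TensorProduct.assoc A (R j) Y M ((Algebra.TensorProduct.map (AlgHom.id A (R j)) f).toLinearMap.rTensor M w) =
        (f.toLinearMap.rTensor M).lTensor (R j) (TensorProduct.assoc A (R j) X M w) := by
    intro X Y _ _ _ _ f w
    induction w using TensorProduct.induction_on with
    | zero => simp
    | tmul t m =>
      induction t using TensorProduct.induction_on with
      | zero => simp
      | tmul a b => simp
      | add a b ha hb => simp only [TensorProduct.add_tmul, map_add, ha, hb]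
    | add a b ha hb => simp only [map_add, ha, hb]
  have hass₀ : ∀ {X : Type u} [CommRing X] [Algebra A X] (w : X ⊗[A] M),
      TensorProduct.assoc A (R j) X M
        ((Algebra.TensorProduct.includeRight : X →ₐ[A] R j ⊗[A] X).toLinearMap.rTensor M w) = (1 : R j) ⊗ₜ[A] w := by
    intro X _ _ w
    induction w using TensorProduct.induction_on with
    | zero => simp
    | tmul t m => simp
    | add a b ha hb => simp only [map_add, ha, hb, TensorProduct.tmul_add]
  have key : (1 : R j) ⊗ₜ[A] c' = δ.lTensor (R j) z := by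
    rw [hsum ((1 : R j) ⊗ₜ[A] c'), hsum (δ.lTensor (R j) z)]
    refine Finset.sum_congr rfl fun p _ => congrArg _ ?_
    obtain ⟨l, k⟩ := p
    rw [← LinearMap.lTensor_comp_apply, LinearMap.proj_pi, LinearMap.lTensor_tmul, LinearMap.lTensor_sub,
      LinearMap.sub_apply, LinearMap.lTensor_comp_apply, LinearMap.lTensor_comp_apply, hproj, hproj,
      ← hass, ← hass, ← map_sub, ← hc j l k, hass₀]
    rfl
  have hQ : (LinearMap.range δ).mkQ.lTensor (R j) (δ.lTensor (R j) z) = 0 := by
    rw [← LinearMap.lTensor_comp_apply, show (LinearMap.range δ).mkQ ∘ₗ δ = 0 from LinearMap.range_mkQ_comp δ,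
      LinearMap.lTensor_zero, LinearMap.zero_apply]
  rw [← LinearMap.lTensor_tmul, key, hQ]

variable (A) in
/-- A map of algebras as a morphism. -/
abbrev am {X Y : Type u} [CommRing X] [Algebra A X] [CommRing Y] [Algebra A Y] (f : X →ₐ[A] Y) :
    Adeq.algOf A X ⟶ Adeq.algOf A Y := CommAlgCat.ofHom f

/-- Cocycles with values in adequate functors are coboundaries. -/
theorem adequate_family_h1 (hR : FaithfulFamily A R) {F : Adeq.MVF A} (hF : Adeq.adequate A F)
    (c : ∀ l k, F.obj (Adeq.pt (Adeq.algOf A (R l ⊗[A] R k))))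
    (hc : ∀ j l k, tr F (am A (inc₀ A R j l k)) (c l k) =
      tr F (am A (inc₁ A R j l k)) (c j k) - tr F (am A (inc₂ A R j l k)) (c j l)) :
    ∃ e : ∀ k, F.obj (Adeq.pt (Adeq.algOf A (R k))), ∀ l k,
      c l k = tr F (am A (incR A R l k)) (e k) - tr F (am A (incL A R l k)) (e l) := by
  obtain ⟨M, N, ι, φ, hinj, hzero, hex⟩ := exists_embedding hF
  let cM : ∀ l k, (R l ⊗[A] R k) ⊗[A] M := fun l k => el M (Adeq.algOf A (R l ⊗[A] R k)) (ap ι (Adeq.algOf A (R l ⊗[A] R k)) (c l k))
  obtain ⟨e₀, he₀⟩ := family_h1_module R hR M cM fun j l k => by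
    have h := congrArg (fun z => el M (Adeq.algOf A (R j ⊗[A] (R l ⊗[A] R k)))
      (ap ι (Adeq.algOf A (R j ⊗[A] (R l ⊗[A] R k))) z)) (hc j l k)
    rw [map_sub, map_sub, ap_tr, ap_tr, ap_tr, el_tr, el_tr, el_tr] at h
    exact h
  let eU : ∀ k, (U M).obj (Adeq.pt (Adeq.algOf A (R k))) := fun k => (el M (Adeq.algOf A (R k))).symm (e₀ k)
  have heU : ∀ l k, ap ι (Adeq.algOf A (R l ⊗[A] R k)) (c l k) =
      tr (U M) (am A (incR A R l k)) (eU k) - tr (U M) (am A (incL A R l k)) (eU l) := fun l k =>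
    (el M (Adeq.algOf A (R l ⊗[A] R k))).injective (by
      rw [map_sub, el_tr, el_tr, LinearEquiv.apply_symm_apply, LinearEquiv.apply_symm_apply]
      exact he₀ l k)
  obtain ⟨n, hn⟩ := family_descent_module R hR N
    (fun k => el N (Adeq.algOf A (R k)) (ap (uh φ) (Adeq.algOf A (R k)) (eU k))) fun k l => by
      have h := congrArg (fun z => el N (Adeq.algOf A (R l ⊗[A] R k)) (ap (uh φ) (Adeq.algOf A (R l ⊗[A] R k)) z))
        (heU l k)
      rw [hzero, map_zero, map_sub, map_sub, ap_tr, ap_tr, el_tr, el_tr, eq_comm, sub_eq_zero] at h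
      exact h.symm
  have hn' : ∀ k, (1 : R k) ⊗ₜ[A] (LinearMap.range φ.hom).mkQ n = 0 := fun k => by
    rw [← LinearMap.lTensor_tmul, hn k, el_uh]
    exact (LinearMap.lTensor_comp_apply _ _ _ _).symm.trans (by
      rw [show (LinearMap.range φ.hom).mkQ ∘ₗ φ.hom = 0 from LinearMap.range_mkQ_comp _, LinearMap.lTensor_zero,
        LinearMap.zero_apply])
  obtain ⟨m, rfl⟩ := (Submodule.Quotient.mk_eq_zero (LinearMap.range φ.hom)).1 (hR _ _ hn')
  let z : (U M).obj (Adeq.pt (Adeq.algOf A A)) := (el M (Adeq.algOf A A)).symm ((1 : A) ⊗ₜ[A] m)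
  have hk : ∀ k, ap (uh φ) (Adeq.algOf A (R k)) (eU k - tr (U M) (unitHom (R k)) z) = 0 := fun k => by
    refine (el N (Adeq.algOf A (R k))).injective ?_
    rw [map_sub, map_sub, ap_tr, el_unitHom, map_zero, sub_eq_zero, ← hn k, el_uh, LinearEquiv.apply_symm_apply,
      LinearMap.baseChange_tmul]
    change _ = (1 : R k) ⊗ₜ[A] TensorProduct.lid A N ((1 : A) ⊗ₜ[A] φ.hom m)
    rw [TensorProduct.lid_tmul, one_smul]
  choose e he using fun k => hex _ _ (hk k)
  refine ⟨e, fun l k => hinj _ ?_⟩
  have hu : tr (U M) (am A (incR A R l k)) (tr (U M) (unitHom (R k)) z) =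
      tr (U M) (am A (incL A R l k)) (tr (U M) (unitHom (R l)) z) := by
    rw [← tr_comp, ← tr_comp]
    refine congrArg (fun f => tr (U M) f z) (CommAlgCat.hom_ext (AlgHom.ext fun a => ?_))
    exact (incR A R l k).commutes a |>.trans ((incL A R l k).commutes a).symm
  rw [heU, map_sub, ap_tr, ap_tr, he, he, map_sub, map_sub, hu]
  abel

end AdeqLib
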