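import Groth.Agent.AdeqLib.Mk
import Mathlib.RingTheory.RingHom.Flat
import Mathlib.RingTheory.Flat.Basic
import Mathlib.LinearAlgebra.TensorProduct.Tower

/-!
Adequate functors commute with flat base change.
-/

set_option autoImplicit false
universe u

open CategoryTheory Limits TensorProduct

noncomputable section

namespace AdeqLib

variable {A : Type u} [CommRing A]

section

variable {B B' : Adeq.Alg A} (f : B ⟶ B')

/-- The base change map, on a pure tensor. -/
theorem bc_tmul (F : Adeq.MVF A) (s : B') (x : F.obj (Adeq.pt B)) :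
    letI : Algebra (B : Type u) (B' : Type u) := f.hom.toRingHom.toAlgebra
    (F.bc f).hom ((s ⊗ₜ[(B : Type u)] x : (B' : Type u) ⊗[(B : Type u)] F.obj (Adeq.pt B))) = s • tr F f x :=
  rfl

theorem isIso_bc_of_flat {F : Adeq.MVF A} (hF : Adeq.adequate A F) (hf : f.hom.toRingHom.Flat) :
    IsIso (F.bc f) := by
  obtain ⟨M, N, ι, φ, hinj, hzero, hex⟩ := exists_embedding hF
  letI : Algebra (B : Type u) (B' : Type u) := f.hom.toRingHom.toAlgebra
  haveI : IsScalarTower A (B : Type u) (B' : Type u) := IsScalarTower.of_algebraMap_eq fun a => (f.hom.commutes a).symm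
  haveI : Module.Flat (B : Type u) (B' : Type u) := hf
  let j : F.obj (Adeq.pt B) →ₗ[(B : Type u)] (B : Type u) ⊗[A] M := (el M B).toLinearMap ∘ₗ ap ι B
  let p : (B : Type u) ⊗[A] M →ₗ[(B : Type u)] (B : Type u) ⊗[A] N := φ.hom.baseChange (B : Type u)
  have hj : Function.Injective j := (el M B).injective.comp (hinj B)
  have hjp : Function.Exact j p := fun z => ⟨fun hz => by
    obtain ⟨y, hy⟩ := hex B ((el M B).symm z)
      ((ap_uh_eq_zero_iff φ B _).2 (by rw [LinearEquiv.apply_symm_apply]; exact hz))
    exact ⟨y, (congrArg (el M B) hy).trans ((el M B).apply_symm_apply z)⟩,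
    fun ⟨y, hy⟩ => hy ▸ (ap_uh_eq_zero_iff φ B _).1 (hzero B y)⟩
  let cM := AlgebraTensorModule.cancelBaseChange A (B : Type u) (B' : Type u) (B' : Type u) M
  let cN := AlgebraTensorModule.cancelBaseChange A (B : Type u) (B' : Type u) (B' : Type u) N
  let L : (B' : Type u) ⊗[(B : Type u)] F.obj (Adeq.pt B) →+ F.obj (Adeq.pt B') :=
    (F.bc f).hom.toAddMonoidHom
  have hL : ∀ z, el M B' (ap ι B' (L z)) = cM (j.lTensor (B' : Type u) z) := by
    intro z
    induction z using TensorProduct.induction_on with
    | zero => simp only [map_zero]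
    | add x y hx hy => simp only [map_add, hx, hy]
    | tmul s x =>
      rw [show L (s ⊗ₜ[(B : Type u)] x) = s • tr F f x from bc_tmul f F s x, ap_smul, ap_tr, map_smul, el_tr,
        LinearMap.lTensor_tmul]
      change s • f.hom.toLinearMap.rTensor M (j x) = cM (s ⊗ₜ j x)
      induction j x using TensorProduct.induction_on with
      | zero => simp
      | add a b ha hb => simp only [map_add, smul_add, TensorProduct.tmul_add, ha, hb]
      | tmul b m =>
        rw [LinearMap.rTensor_tmul, TensorProduct.smul_tmul', AlgebraTensorModule.cancelBaseChange_tmul,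
          smul_eq_mul, Algebra.smul_def, mul_comm]
        rfl
  have hcN : ∀ w, φ.hom.baseChange (B' : Type u) (cM w) = cN (p.lTensor (B' : Type u) w) := by
    intro w
    induction w using TensorProduct.induction_on with
    | zero => simp only [map_zero]
    | add x y hx hy => simp only [map_add, hx, hy]
    | tmul s x =>
      induction x using TensorProduct.induction_on with
      | zero => simp only [TensorProduct.tmul_zero, map_zero]
      | add a b ha hb => simp only [map_add, TensorProduct.tmul_add, ha, hb]
      | tmul b m => simp [cM, cN, p]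
  have hbij : Function.Bijective L := by
    refine ⟨fun z z' h => Module.Flat.lTensor_preserves_injective_linearMap j hj (cM.injective ?_), fun y => ?_⟩
    · rw [← hL, ← hL, h]
    · obtain ⟨w, hw⟩ := cM.surjective (el M B' (ap ι B' y))
      have h0 : p.lTensor (B' : Type u) w = 0 := cN.injective (by
        rw [← hcN, hw, map_zero]
        exact (ap_uh_eq_zero_iff φ B' _).1 (hzero B' y))
      obtain ⟨z, hz⟩ := (Module.Flat.lTensor_exact (B' : Type u) hjp w).1 h0
      exact ⟨z, hinj B' ((el M B').injective (by rw [hL, hz, hw]))⟩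
  exact (ConcreteCategory.isIso_iff_bijective (F.bc f)).2 hbij

end

end AdeqLib
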