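import Groth.Agent.AdeqLib.Base

/-!
Morphisms of module-valued functors from their components.
-/

set_option autoImplicit false
universe u

open CategoryTheory

noncomputable section

namespace AdeqLib

variable {A : Type u} [CommRing A]

/-- A morphism from additive, linear and natural components. -/
def mkHom {F G : Adeq.MVF A} (app : ∀ B : Adeq.Alg A, F.obj (Adeq.pt B) →+ G.obj (Adeq.pt B))
    (smul : ∀ (B : Adeq.Alg A) (b : B) (x : F.obj (Adeq.pt B)), app B (b • x) = b • app B x)
    (nat : ∀ {B B' : Adeq.Alg A} (h : B ⟶ B') (x : F.obj (Adeq.pt B)), app B' (tr F h x) = tr G h (app B x)) :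
    F ⟶ G where
  app X := ModuleCat.ofHom
    { toFun := app X.unop.unop
      map_add' := map_add (app X.unop.unop)
      map_smul' := smul X.unop.unop }
  naturality {X Y} g := by
    ext x
    exact nat g.unop.unop x

theorem ap_mkHom {F G : Adeq.MVF A} (app : ∀ B : Adeq.Alg A, F.obj (Adeq.pt B) →+ G.obj (Adeq.pt B)) (smul) (nat)
    (B : Adeq.Alg A) (x : F.obj (Adeq.pt B)) : ap (mkHom app smul nat) B x = app B x := rfl

end AdeqLib
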