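import Groth.Agent.AdeqLib.Category
import Groth.Agent.AdeqLib.Descent

/-!
Adequacy descends along a finite family of ring maps.
-/

set_option autoImplicit false
set_option maxHeartbeats 3000000
universe u

open CategoryTheory Limits TensorProduct

noncomputable section

namespace AdeqLib

variable {A : Type u} [CommRing A]

theorem adequate_biproduct {ι : Type} [Finite ι] (G : ι → Adeq.MVF A) [HasBiproduct G]
    (h : ∀ i, Adeq.adequate A (G i)) : Adeq.adequate A (⨁ G) :=
  (Adeq.adequate A).prop_of_iso (biproduct.isoProduct G).symm ((Adeq.adequate A).prop_product h)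

theorem ap_sum {F G : Adeq.MVF A} {ι : Type*} (s : Finset ι) (f : ι → (F ⟶ G)) (B : Adeq.Alg A)
    (x : F.obj (Adeq.pt B)) : ap (∑ i ∈ s, f i) B x = ∑ i ∈ s, ap (f i) B x := by
  classical
  induction s using Finset.induction with
  | empty => rw [Finset.sum_empty, Finset.sum_empty, ap_zero]
  | insert a s ha ih => rw [Finset.sum_insert ha, Finset.sum_insert ha, ap_add, ih]

section Biproduct

variable {ι : Type} [Fintype ι] (G : ι → Adeq.MVF A) [HasBiproduct G] (B : Adeq.Alg A)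

theorem biproduct_ext_apply {x y : (⨁ G).obj (Adeq.pt B)}
    (h : ∀ i, ap (biproduct.π G i) B x = ap (biproduct.π G i) B y) : x = y := by
  have e : ∀ z : (⨁ G).obj (Adeq.pt B), z = ∑ i, ap (biproduct.ι G i) B (ap (biproduct.π G i) B z) := fun z =>
    (show z = ap (𝟙 (⨁ G)) B z from rfl).trans ((congrArg (fun k => ap k B z) (biproduct.total (f := G))).symm.trans
      (ap_sum Finset.univ (fun i => biproduct.π G i ≫ biproduct.ι G i) B z))
  rw [e x, e y]
  exact Finset.sum_congr rfl fun i _ => by rw [h i]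

theorem exists_biproduct_apply (y : ∀ i, (G i).obj (Adeq.pt B)) :
    ∃ z : (⨁ G).obj (Adeq.pt B), ∀ i, ap (biproduct.π G i) B z = y i := by
  classical
  refine ⟨∑ j, ap (biproduct.ι G j) B (y j), fun i => ?_⟩
  rw [map_sum, Finset.sum_eq_single i (fun j _ hj => by rw [← ap_comp, biproduct.ι_π_ne G hj, ap_zero])
    (fun h => absurd (Finset.mem_univ i) h), ← ap_comp, biproduct.ι_π_self]
  rfl

end Biproduct

/-- The functor `B ↦ F (A' ⊗ B)`. -/
abbrev pr (A' : Type u) [CommRing A'] [Algebra A A'] (F : Adeq.MVF A) : Adeq.MVF A :=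
  (Adeq.push A A').obj ((Adeq.restr A A').obj F)

theorem ap_push_restr (A' : Type u) [CommRing A'] [Algebra A A'] {F G : Adeq.MVF A} (f : F ⟶ G) (B : Adeq.Alg A)
    (z : (pr A' F).obj (Adeq.pt B)) :
    ap ((Adeq.push A A').map ((Adeq.restr A A').map f)) B z = ap f (rB (pB A' B)) z := rfl

theorem ap_etaPR (A' : Type u) [CommRing A'] [Algebra A A'] (F : Adeq.MVF A) (B : Adeq.Alg A)
    (z : F.obj (Adeq.pt B)) : ap (etaPR A' F) B z = tr F (Adeq.Alg.unit A A' B) z := rfl

theorem tr_pr (A' : Type u) [CommRing A'] [Algebra A A'] (F : Adeq.MVF A) {B B' : Adeq.Alg A} (h : B ⟶ B')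
    (z : (pr A' F).obj (Adeq.pt B)) :
    tr (pr A' F) h z = tr F ((Adeq.Alg.restr A A').map ((Adeq.Alg.baseChange A A').map h)) z := rfl

theorem ap_sub {F G : Adeq.MVF A} (f g : F ⟶ G) (B : Adeq.Alg A) (x : F.obj (Adeq.pt B)) :
    ap (f - g) B x = ap f B x - ap g B x := rfl

theorem diff_apply (A₁ A₂ : Type u) [CommRing A₁] [CommRing A₂] [Algebra A A₁] [Algebra A A₂] (F : Adeq.MVF A)
    {X : Adeq.MVF A} (p₁ : X ⟶ pr A₁ F) (p₂ : X ⟶ pr A₂ F) (B : Adeq.Alg A) (z : X.obj (Adeq.pt B)) :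
    ap (p₁ ≫ (Adeq.push A A₁).map ((Adeq.restr A A₁).map (etaPR A₂ F)) - p₂ ≫ etaPR A₁ (pr A₂ F)) B z =
      tr F (Adeq.Alg.unit A A₂ (rB (pB A₁ B))) (ap p₁ B z) -
        tr F ((Adeq.Alg.restr A A₂).map ((Adeq.Alg.baseChange A A₂).map (Adeq.Alg.unit A A₁ B))) (ap p₂ B z) := by
  rw [ap_sub, ap_comp, ap_comp]
  exact congrArg₂ (· - ·) (ap_etaPR A₂ F _ _) ((ap_etaPR A₁ (pr A₂ F) B _).trans (tr_pr A₂ F _ _))

/-- A criterion for being the kernel. -/
theorem isIso_kernel_lift {F X Y : Adeq.MVF A} (η : F ⟶ X) (d : X ⟶ Y) (hc : η ≫ d = 0)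
    (inj : ∀ B x, ap η B x = 0 → x = 0) (surj : ∀ B z, ap d B z = 0 → ∃ x, ap η B x = z) :
    IsIso (kernel.lift d η hc) := by
  have hker : ∀ B x, ap (kernel.ι d) B (ap (kernel.lift d η hc) B x) = ap η B x := fun B x =>
    congrArg (fun f => ap f B x) (kernel.lift_ι d η hc)
  refine isIso_of_bijective _ fun B => ⟨(injective_iff_map_eq_zero _).2 fun x hx => inj B x ?_, fun z => ?_⟩
  · rw [← hker, hx, map_zero]
  · obtain ⟨x, hx⟩ := surj B (ap (kernel.ι d) B z) (kernel_condition_apply d B z)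
    exact ⟨x, kernel_ι_injective d B ((hker B x).trans hx)⟩

/-- Descent of adequacy along a finite family of ring maps for which the sheaf condition holds. -/
theorem adequate_multiDescent {κ : Type} [Finite κ] (F : Adeq.MVF A) (R : κ → Type u)
    [∀ k, CommRing (R k)] [∀ k, Algebra A (R k)] (h₁ : ∀ k, Adeq.adequate (R k) ((Adeq.restr A (R k)).obj F))
    (hinj : ∀ (B : Adeq.Alg A) (x : F.obj (Adeq.pt B)),
      (∀ k, tr F (Adeq.Alg.unit A (R k) B) x = 0) → x = 0)
    (heq : ∀ (B : Adeq.Alg A) (y : ∀ k, F.obj (Adeq.pt (rB (pB (R k) B)))),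
      (∀ k l, tr F (Adeq.Alg.unit A (R l) (rB (pB (R k) B))) (y k) =
        tr F ((Adeq.Alg.restr A (R l)).map ((Adeq.Alg.baseChange A (R l)).map (Adeq.Alg.unit A (R k) B))) (y l)) →
      ∃ x, ∀ k, tr F (Adeq.Alg.unit A (R k) B) x = y k) : Adeq.adequate A F := by
  have := Fintype.ofFinite κ
  have := HasFiniteBiproducts.of_hasFiniteProducts (C := Adeq.MVF A)
  let G : κ → Adeq.MVF A := fun k => pr (R k) F
  have hG : ∀ k, Adeq.adequate A (G k) := fun k => adequate_push (h₁ k)
  let T : κ × κ → Adeq.MVF A := fun p => pr (R p.1) (pr (R p.2) F)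
  let α : ∀ p : κ × κ, G p.1 ⟶ T p := fun p =>
    (Adeq.push A (R p.1)).map ((Adeq.restr A (R p.1)).map (etaPR (R p.2) F))
  let β : ∀ p : κ × κ, G p.2 ⟶ T p := fun p => etaPR (R p.1) (pr (R p.2) F)
  let d : ⨁ G ⟶ ⨁ T := biproduct.lift fun p => biproduct.π G p.1 ≫ α p - biproduct.π G p.2 ≫ β p
  let η : F ⟶ ⨁ G := biproduct.lift fun k => etaPR (R k) F
  have hη : ∀ k B x, ap (biproduct.π G k) B (ap η B x) = tr F (Adeq.Alg.unit A (R k) B) x := fun k B x =>
    (congrArg (fun f => ap f B x) (biproduct.lift_π (fun k => etaPR (R k) F) k)).trans (ap_etaPR (R k) F B x)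
  have hd : ∀ p B z, ap (biproduct.π T p) B (ap d B z) =
      tr F (Adeq.Alg.unit A (R p.2) (rB (pB (R p.1) B))) (ap (biproduct.π G p.1) B z) -
        tr F ((Adeq.Alg.restr A (R p.2)).map ((Adeq.Alg.baseChange A (R p.2)).map (Adeq.Alg.unit A (R p.1) B)))
          (ap (biproduct.π G p.2) B z) := fun p B z => by
    rw [← ap_comp, biproduct.lift_π]
    exact diff_apply (R p.1) (R p.2) F (biproduct.π G p.1) (biproduct.π G p.2) B z
  have hc : η ≫ d = 0 := hom_ext fun B x => biproduct_ext_apply T B fun p => by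
    rw [ap_comp, hd, ap_zero, map_zero, hη, hη]
    exact sub_eq_zero_of_eq ((tr_comp F _ _ x).symm.trans
      ((congrArg (fun f => tr F f x) (unit_nat (A' := R p.2) (Adeq.Alg.unit A (R p.1) B))).trans (tr_comp F _ _ x)))
  have hiso : IsIso (kernel.lift d η hc) := isIso_kernel_lift η d hc
    (fun B x hx => hinj B x fun k =>
      (hη k B x).symm.trans ((congrArg (ap (biproduct.π G k) B) hx).trans (map_zero _)))
    (fun B z hz => by
      obtain ⟨x, hx⟩ := heq B (fun k => ap (biproduct.π G k) B z) fun k l =>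
        eq_of_sub_eq_zero ((hd (k, l) B z).symm.trans
          ((congrArg (ap (biproduct.π T (k, l)) B) hz).trans (map_zero _)))
      exact ⟨x, biproduct_ext_apply G B fun k => (hη k B x).trans (hx k)⟩)
  exact (Adeq.adequate A).prop_of_iso (asIso (kernel.lift d η hc)).symm
    (adequate_kernel d (adequate_biproduct G hG)
      (adequate_biproduct T fun p => adequate_push (adequate_restr (hG p.2))))

end AdeqLib
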