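import Groth.Agent.AdeqLib.Universal

/-!
Extensions of linearly adequate functors by functors of modules split.
-/

set_option autoImplicit false
set_option maxHeartbeats 800000
universe u

open CategoryTheory Limits TensorProduct

noncomputable section

namespace AdeqLib

variable {A : Type u} [CommRing A]

/-- Two copies of `B`. -/
abbrev BB (B : Adeq.Alg A) : Type u := Prod (B : Type u) (B : Type u)

/-- The algebra of dual numbers over `B`. -/
abbrev D1 (B : Adeq.Alg A) : Adeq.Alg A := Adeq.algOf A (TrivSqZeroExt (B : Type u) (B : Type u))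

/-- The square-zero extension by two copies of `B`. -/
abbrev D2 (B : Adeq.Alg A) : Adeq.Alg A := Adeq.algOf A (TrivSqZeroExt (B : Type u) (BB B))

/-- The inclusion into the dual numbers. -/
def i1 (B : Adeq.Alg A) : B ⟶ D1 B := CommAlgCat.ofHom (TrivSqZeroExt.inlAlgHom A (B : Type u) (B : Type u))

/-- The inclusion into the double dual numbers. -/
def i2 (B : Adeq.Alg A) : B ⟶ D2 B :=
  CommAlgCat.ofHom (TrivSqZeroExt.inlAlgHom A (B : Type u) (BB B))

/-- The first nilpotent. -/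
def eps (B : Adeq.Alg A) : (D1 B : Type u) := TrivSqZeroExt.inr (1 : (B : Type u))

/-- A nilpotent of the double dual numbers. -/
def eps2 (B : Adeq.Alg A) (a : BB B) : (D2 B : Type u) := TrivSqZeroExt.inr a

/-- The evaluation at zero. -/
def f1 (B : Adeq.Alg A) : D1 B ⟶ B :=
  CommAlgCat.ofHom ((TrivSqZeroExt.fstHom (B : Type u) (B : Type u) (B : Type u)).restrictScalars A)

/-- The evaluation at zero of the double dual numbers. -/
def f2 (B : Adeq.Alg A) : D2 B ⟶ B :=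
  CommAlgCat.ofHom ((TrivSqZeroExt.fstHom (B : Type u) (B : Type u) (BB B)).restrictScalars A)

/-- The map of dual numbers given by a linear form. -/
def m21 (B : Adeq.Alg A) (g : BB B →ₗ[(B : Type u)] (B : Type u)) : D2 B ⟶ D1 B :=
  CommAlgCat.ofHom ((TrivSqZeroExt.map g).restrictScalars A)

/-- Scaling of the nilpotent. -/
def m11 (B : Adeq.Alg A) (c : (B : Type u)) : D1 B ⟶ D1 B :=
  CommAlgCat.ofHom ((TrivSqZeroExt.map (LinearMap.mulLeft (B : Type u) c)).restrictScalars A)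

theorem tr_comp' (F : Adeq.MVF A) {B B' B'' : Adeq.Alg A} (f : B ⟶ B') (g : B' ⟶ B'') (x : F.obj (Adeq.pt B)) :
    tr F (f ≫ g) x = tr F g (tr F f x) :=
  PresheafOfModules.map_comp_apply F (Adeq.ptHom f) (Adeq.ptHom g) x

theorem tr_id (F : Adeq.MVF A) {B : Adeq.Alg A} (x : F.obj (Adeq.pt B)) : tr F (𝟙 B) x = x := by
  rw [tr_apply]
  change F.map (𝟙 (Adeq.pt B)) x = x
  rw [PresheafOfModules.map_id]
  rfl

section

variable {M : ModuleCat.{u + 1} A} (B : Adeq.Alg A)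

theorem el_tr_f1_eps (x : (U M).obj (Adeq.pt (D1 B))) :
    tr (U M) (f1 B) (eps B • x) = 0 := by
  rw [tr_smul, show (f1 B).hom (eps B) = 0 from rfl, zero_smul]

theorem exists_eq_eps_smul (x : (U M).obj (Adeq.pt (D1 B))) (hx : tr (U M) (f1 B) x = 0) :
    ∃ w : (U M).obj (Adeq.pt B), x = eps B • tr (U M) (i1 B) w := by
  refine ⟨(el M B).symm (((TrivSqZeroExt.sndHom (B : Type u) (B : Type u)).restrictScalars A).rTensor M
    (el M (D1 B) x)), (el M (D1 B)).injective ?_⟩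
  rw [map_smul, el_tr, LinearEquiv.apply_symm_apply]
  have h0 : (f1 B).hom.toLinearMap.rTensor M (el M (D1 B) x) = 0 := by rw [← el_tr, hx, map_zero]
  have key : ∀ z : (D1 B : Type u) ⊗[A] M, z = (i1 B).hom.toLinearMap.rTensor M ((f1 B).hom.toLinearMap.rTensor M z) +
      eps B • (i1 B).hom.toLinearMap.rTensor M
        (((TrivSqZeroExt.sndHom (B : Type u) (B : Type u)).restrictScalars A).rTensor M z) := by
    intro z
    induction z using TensorProduct.induction_on with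
    | zero => simp
    | add a b ha hb =>
      simp only [map_add, smul_add]
      conv_lhs => rw [ha, hb]
      abel
    | tmul d m =>
      simp only [LinearMap.rTensor_tmul, TensorProduct.smul_tmul', ← TensorProduct.add_tmul, smul_eq_mul]
      congr 1
      change d = TrivSqZeroExt.inl d.fst + TrivSqZeroExt.inr 1 * TrivSqZeroExt.inl d.snd
      rw [TrivSqZeroExt.inr_mul_inl, op_smul_eq_smul, smul_eq_mul, mul_one, TrivSqZeroExt.inl_fst_add_inr_snd_eq]
  exact (key _).trans (by rw [h0, map_zero, zero_add])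

theorem eq_zero_of_eps_smul (w : (U M).obj (Adeq.pt B)) (h : eps B • tr (U M) (i1 B) w = 0) : w = 0 := by
  refine (el M B).injective ?_
  have key : ∀ z : (B : Type u) ⊗[A] M, ((TrivSqZeroExt.sndHom (B : Type u) (B : Type u)).restrictScalars A).rTensor M
      (eps B • (i1 B).hom.toLinearMap.rTensor M z) = z := by
    intro z
    induction z using TensorProduct.induction_on with
    | zero => simp
    | add a b ha hb => simp only [map_add, smul_add, ha, hb]
    | tmul d m =>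
      simp only [LinearMap.rTensor_tmul, TensorProduct.smul_tmul', smul_eq_mul]
      congr 1
      change (TrivSqZeroExt.inr (1 : (B : Type u)) * TrivSqZeroExt.inl d).snd = d
      rw [TrivSqZeroExt.inr_mul_inl, op_smul_eq_smul, smul_eq_mul, mul_one, TrivSqZeroExt.snd_inr]
  rw [← key (el M B w), ← el_tr, ← map_smul, h, map_zero, map_zero, map_zero]

theorem eq_zero_of_three (x : (U M).obj (Adeq.pt (D2 B))) (h0 : tr (U M) (f2 B) x = 0)
    (h1 : tr (U M) (m21 B (LinearMap.fst _ _ _)) x = 0) (h2 : tr (U M) (m21 B (LinearMap.snd _ _ _)) x = 0) :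
    x = 0 := by
  refine (el M (D2 B)).injective ?_
  let s : (D1 B : Type u) →ₗ[A] B := (TrivSqZeroExt.sndHom (B : Type u) (B : Type u)).restrictScalars A
  let inL : (B : Type u) →ₗ[A] (D2 B : Type u) :=
    (TrivSqZeroExt.inrHom (B : Type u) (BB B)).restrictScalars A ∘ₗ LinearMap.inl A _ _
  let inR : (B : Type u) →ₗ[A] (D2 B : Type u) :=
    (TrivSqZeroExt.inrHom (B : Type u) (BB B)).restrictScalars A ∘ₗ LinearMap.inr A _ _
  have key : ∀ z : (D2 B : Type u) ⊗[A] M, z = (i2 B).hom.toLinearMap.rTensor M ((f2 B).hom.toLinearMap.rTensor M z) +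
      inL.rTensor M (s.rTensor M ((m21 B (LinearMap.fst _ _ _)).hom.toLinearMap.rTensor M z)) +
      inR.rTensor M (s.rTensor M ((m21 B (LinearMap.snd _ _ _)).hom.toLinearMap.rTensor M z)) := by
    intro z
    induction z using TensorProduct.induction_on with
    | zero => simp
    | add a b ha hb =>
      simp only [map_add]
      conv_lhs => rw [ha, hb]
      abel
    | tmul d m =>
      simp only [LinearMap.rTensor_tmul, ← TensorProduct.add_tmul]
      congr 1
      change d = TrivSqZeroExt.inl d.fst +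
        TrivSqZeroExt.inr ((TrivSqZeroExt.map (LinearMap.fst (B : Type u) (B : Type u) (B : Type u)) d).snd, 0) +
        TrivSqZeroExt.inr (0, (TrivSqZeroExt.map (LinearMap.snd (B : Type u) (B : Type u) (B : Type u)) d).snd)
      rw [TrivSqZeroExt.snd_map, TrivSqZeroExt.snd_map, add_assoc, ← TrivSqZeroExt.inr_add, Prod.mk_add_mk, add_zero,
        zero_add]
      exact (TrivSqZeroExt.inl_fst_add_inr_snd_eq d).symm
  rw [key (el M (D2 B) x)]
  rw [← el_tr (f2 B) x, ← el_tr (m21 B (LinearMap.fst _ _ _)) x, ← el_tr (m21 B (LinearMap.snd _ _ _)) x, h0, h1, h2]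
  simp only [map_zero, add_zero]

end

variable {P P' M : ModuleCat.{u + 1} A} [Module.Finite A P] [Module.Free A P] [Module.Finite A P'] [Module.Free A P']
  {φ₀ : P ⟶ P'}

/-- The map classifying a linear map of coordinates in dual numbers. -/
def cls1 {B : Adeq.Alg A} (b : UQ φ₀ →ₗ[A] (B : Type u)) : uS φ₀ ⟶ D1 B := CommAlgCat.ofHom (sq B b)

/-- The map classifying two linear maps of coordinates. -/
def cls2 {B : Adeq.Alg A} (b : UQ φ₀ →ₗ[A] BB B) : uS φ₀ ⟶ D2 B :=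
  CommAlgCat.ofHom (sq B b)

theorem cls1_elt {B : Adeq.Alg A} (y : (kernel (uh φ₀)).obj (Adeq.pt B)) :
    tr _ (cls1 (uBeta φ₀ y)) (uElt φ₀) = eps B • tr _ (i1 B) y := by
  refine kernel_ι_injective (uh φ₀) _ ((el P _).injective ?_)
  rw [ap_tr, el_tr, el_uElt, ap_smul, ap_tr, map_smul, el_tr, el_eq_sum φ₀ y, uT]
  simp only [map_sum, LinearMap.rTensor_tmul, Finset.smul_sum, TensorProduct.smul_tmul', smul_eq_mul]
  refine Finset.sum_congr rfl fun i _ => ?_
  congr 1
  change sq B (uBeta φ₀ y) (TrivSqZeroExt.inr (uq φ₀ i)) =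
    TrivSqZeroExt.inr (1 : (B : Type u)) * TrivSqZeroExt.inl (uBeta φ₀ y (uq φ₀ i))
  rw [TrivSqZeroExt.inr_mul_inl, op_smul_eq_smul, smul_eq_mul, mul_one, sq_apply, TrivSqZeroExt.fst_inr, map_zero,
    TrivSqZeroExt.inl_zero, zero_add, TrivSqZeroExt.snd_inr]

theorem cls2_elt {B : Adeq.Alg A} (y y' : (kernel (uh φ₀)).obj (Adeq.pt B)) :
    tr _ (cls2 ((uBeta φ₀ y).prod (uBeta φ₀ y'))) (uElt φ₀) =
      eps2 B (1, 0) • tr _ (i2 B) y + eps2 B (0, 1) • tr _ (i2 B) y' := by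
  refine kernel_ι_injective (uh φ₀) _ ((el P _).injective ?_)
  rw [ap_tr, el_tr, el_uElt, map_add, ap_smul, ap_smul, ap_tr, ap_tr, map_add, map_smul, map_smul, el_tr, el_tr,
    el_eq_sum φ₀ y, el_eq_sum φ₀ y', uT]
  simp only [map_sum, LinearMap.rTensor_tmul, Finset.smul_sum, TensorProduct.smul_tmul', smul_eq_mul,
    ← Finset.sum_add_distrib, ← TensorProduct.add_tmul]
  refine Finset.sum_congr rfl fun i _ => ?_
  congr 1
  change sq B ((uBeta φ₀ y).prod (uBeta φ₀ y')) (TrivSqZeroExt.inr (uq φ₀ i)) =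
    TrivSqZeroExt.inr ((1 : (B : Type u)), (0 : (B : Type u))) * TrivSqZeroExt.inl (uBeta φ₀ y (uq φ₀ i)) +
    TrivSqZeroExt.inr ((0 : (B : Type u)), (1 : (B : Type u))) * TrivSqZeroExt.inl (uBeta φ₀ y' (uq φ₀ i))
  rw [TrivSqZeroExt.inr_mul_inl, TrivSqZeroExt.inr_mul_inl, op_smul_eq_smul, op_smul_eq_smul, sq_apply,
    TrivSqZeroExt.fst_inr, map_zero, TrivSqZeroExt.inl_zero, zero_add, TrivSqZeroExt.snd_inr, ← TrivSqZeroExt.inr_add]
  simp

theorem cls2_m21 {B : Adeq.Alg A} (b : UQ φ₀ →ₗ[A] BB B)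
    (g : BB B →ₗ[(B : Type u)] (B : Type u)) :
    cls2 b ≫ m21 B g = cls1 ((g.restrictScalars A) ∘ₗ b) := by
  apply CommAlgCat.hom_ext
  refine DFunLike.ext _ _ fun z => ?_
  change TrivSqZeroExt.map g (sq B b z) = sq B ((g.restrictScalars A) ∘ₗ b) z
  apply TrivSqZeroExt.ext
  · rw [TrivSqZeroExt.fst_map, fst_sq, fst_sq]
  · rw [TrivSqZeroExt.snd_map, snd_sq, snd_sq]
    rfl

theorem cls1_m11 {B : Adeq.Alg A} (b : UQ φ₀ →ₗ[A] (B : Type u)) (c : (B : Type u)) :
    cls1 b ≫ m11 B c = cls1 (LinearMap.mulLeft A c ∘ₗ b) := by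
  apply CommAlgCat.hom_ext
  refine DFunLike.ext _ _ fun z => ?_
  change TrivSqZeroExt.map (LinearMap.mulLeft (B : Type u) c) (sq B b z) = sq B (LinearMap.mulLeft A c ∘ₗ b) z
  apply TrivSqZeroExt.ext
  · rw [TrivSqZeroExt.fst_map, fst_sq, fst_sq]
  · rw [TrivSqZeroExt.snd_map, snd_sq, snd_sq]
    rfl

/-- The map of dual numbers induced by a map of algebras. -/
def mapD1 {B B' : Adeq.Alg A} (h : B ⟶ B') : D1 B ⟶ D1 B' :=
  CommAlgCat.ofHom (TrivSqZeroExt.lift ((TrivSqZeroExt.inlAlgHom A (B' : Type u) (B' : Type u)).comp h.hom)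
    ((TrivSqZeroExt.inrHom (B' : Type u) (B' : Type u)).restrictScalars A ∘ₗ h.hom.toLinearMap)
    (fun x z => TrivSqZeroExt.inr_mul_inr _ _ _)
    (fun r x => by
      change TrivSqZeroExt.inr (h.hom (r * x)) = TrivSqZeroExt.inl (h.hom r) * TrivSqZeroExt.inr (h.hom x)
      rw [TrivSqZeroExt.inl_mul_inr, smul_eq_mul, map_mul])
    (fun r x => by
      change TrivSqZeroExt.inr (h.hom (x * r)) = TrivSqZeroExt.inr (h.hom x) * TrivSqZeroExt.inl (h.hom r)
      rw [TrivSqZeroExt.inr_mul_inl, op_smul_eq_smul, smul_eq_mul, map_mul, mul_comm]))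

theorem mapD1_apply {B B' : Adeq.Alg A} (h : B ⟶ B') (z : TrivSqZeroExt (B : Type u) (B : Type u)) :
    (mapD1 h).hom z = TrivSqZeroExt.inl (h.hom z.fst) + TrivSqZeroExt.inr (h.hom z.snd) :=
  rfl

theorem cls1_mapD1 {B B' : Adeq.Alg A} (b : UQ φ₀ →ₗ[A] (B : Type u)) (h : B ⟶ B') :
    cls1 b ≫ mapD1 h = cls1 (h.hom.toLinearMap ∘ₗ b) := by
  apply CommAlgCat.hom_ext
  refine DFunLike.ext _ _ fun z => ?_
  change (mapD1 h).hom (sq B b z) = sq B' (h.hom.toLinearMap ∘ₗ b) z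
  rw [mapD1_apply, fst_sq, snd_sq, sq_apply]
  simp

theorem cls1_f1 {B : Adeq.Alg A} (b : UQ φ₀ →ₗ[A] (B : Type u)) :
    cls1 b ≫ f1 B = CommAlgCat.ofHom (TrivSqZeroExt.fstHom A A (UQ φ₀)) ≫
      (CommAlgCat.ofHom (Algebra.ofId A (B : Type u)) : Adeq.algOf A A ⟶ B) := by
  apply CommAlgCat.hom_ext
  refine DFunLike.ext _ _ fun z => ?_
  exact fst_sq B b z

theorem cls2_f2 {B : Adeq.Alg A} (b : UQ φ₀ →ₗ[A] BB B) :
    cls2 b ≫ f2 B = CommAlgCat.ofHom (TrivSqZeroExt.fstHom A A (UQ φ₀)) ≫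
      (CommAlgCat.ofHom (Algebra.ofId A (B : Type u)) : Adeq.algOf A A ⟶ B) := by
  apply CommAlgCat.hom_ext
  refine DFunLike.ext _ _ fun z => ?_
  exact fst_sq B b z

variable {G : Adeq.MVF A} (i : U M ⟶ G) (p : G ⟶ kernel (uh φ₀)) (hi : ∀ B, Function.Injective (ap i B))
  (hip : ∀ B x, ap p B (ap i B x) = 0) (hex : ∀ B x, ap p B x = 0 → ∃ y, ap i B y = x)
  (hp : ∀ B, Function.Surjective (ap p B))
include hi hip hex hp

theorem exists_normalised : ∃ ξ : G.obj (Adeq.pt (uS φ₀)), ap p (uS φ₀) ξ = uElt φ₀ ∧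
    tr G (CommAlgCat.ofHom (TrivSqZeroExt.fstHom A A (UQ φ₀)) : uS φ₀ ⟶ Adeq.algOf A A) ξ = 0 := by
  let π₀ : uS φ₀ ⟶ Adeq.algOf A A := CommAlgCat.ofHom (TrivSqZeroExt.fstHom A A (UQ φ₀))
  let ι₀ : Adeq.algOf A A ⟶ uS φ₀ := CommAlgCat.ofHom (TrivSqZeroExt.inlAlgHom A A (UQ φ₀))
  obtain ⟨ξ₀, hξ₀⟩ := hp (uS φ₀) (uElt φ₀)
  have h0 : ap p (Adeq.algOf A A) (tr G π₀ ξ₀) = 0 := by
    rw [ap_tr, hξ₀]
    refine kernel_ι_injective (uh φ₀) _ ((el P _).injective ?_)
    rw [ap_tr, el_tr, el_uElt, map_zero, map_zero, uT, map_sum]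
    exact Finset.sum_eq_zero fun j _ => by
      rw [LinearMap.rTensor_tmul]
      exact TensorProduct.zero_tmul _ _
  obtain ⟨m, hm⟩ := hex _ _ h0
  refine ⟨ξ₀ - ap i (uS φ₀) (tr (U M) ι₀ m), by rw [map_sub, hξ₀, hip, sub_zero], ?_⟩
  change tr G π₀ _ = 0
  rw [map_sub, ← ap_tr, ← tr_comp', show ι₀ ≫ π₀ = 𝟙 _ from CommAlgCat.hom_ext (AlgHom.ext fun a => rfl), tr_id, hm,
    sub_self]

/-- The chosen lift of the universal element. -/
def xi : G.obj (Adeq.pt (uS φ₀)) := (exists_normalised i p hi hip hex hp).choose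

theorem ap_xi : ap p (uS φ₀) (xi i p hi hip hex hp) = uElt φ₀ := (exists_normalised i p hi hip hex hp).choose_spec.1

theorem fst_xi {B : Adeq.Alg A} {h : uS φ₀ ⟶ B}
    (e : h = CommAlgCat.ofHom (TrivSqZeroExt.fstHom A A (UQ φ₀)) ≫
      (CommAlgCat.ofHom (Algebra.ofId A (B : Type u)) : Adeq.algOf A A ⟶ B)) :
    tr G h (xi i p hi hip hex hp) = 0 := by
  rw [e, tr_comp']
  exact (congrArg _ (exists_normalised i p hi hip hex hp).choose_spec.2).trans (map_zero _)

theorem exists_sec {B : Adeq.Alg A} (y : (kernel (uh φ₀)).obj (Adeq.pt B)) :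
    ∃ e : G.obj (Adeq.pt B), tr G (cls1 (uBeta φ₀ y)) (xi i p hi hip hex hp) = eps B • tr G (i1 B) e := by
  obtain ⟨e₀, he₀⟩ := hp B y
  have h0 : ap p (D1 B) (tr G (cls1 (uBeta φ₀ y)) (xi i p hi hip hex hp) - eps B • tr G (i1 B) e₀) = 0 := by
    rw [map_sub, ap_smul, ap_tr, ap_tr, ap_xi i p hi hip hex hp, he₀, cls1_elt, sub_self]
  obtain ⟨w, hw⟩ := hex _ _ h0
  have hw0 : tr (U M) (f1 B) w = 0 := hi B (by
    rw [ap_tr, hw, map_sub, map_zero, ← tr_comp', fst_xi i p hi hip hex hp (cls1_f1 _), tr_smul,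
      show (f1 B).hom (eps B) = 0 from rfl, zero_smul, sub_zero])
  obtain ⟨w', rfl⟩ := exists_eq_eps_smul B w hw0
  refine ⟨e₀ + ap i B w', ?_⟩
  rw [map_add, smul_add, ← ap_tr, ← ap_smul, hw]
  abel

theorem sec_unique {B : Adeq.Alg A} (e e' : G.obj (Adeq.pt B))
    (h : eps B • tr G (i1 B) e = eps B • tr G (i1 B) e') : e = e' := by
  rw [← sub_eq_zero] at h ⊢
  rw [← smul_sub, ← map_sub] at h
  have h1 : eps B • tr _ (i1 B) (ap p B (e - e')) = 0 := by rw [← ap_tr, ← ap_smul, h, map_zero]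
  have h2 : ap p B (e - e') = 0 := kernel_ι_injective (uh φ₀) B (by
    rw [map_zero]
    exact eq_zero_of_eps_smul B _ (by rw [← ap_tr, ← ap_smul, h1, map_zero]))
  obtain ⟨w, hw⟩ := hex B _ h2
  rw [← hw, ← ap_tr, ← ap_smul] at h
  rw [← hw, eq_zero_of_eps_smul B w (hi _ (h.trans (map_zero _).symm)), map_zero]

/-- The section on elements. -/
def secVal (B : Adeq.Alg A) (y : (kernel (uh φ₀)).obj (Adeq.pt B)) : G.obj (Adeq.pt B) :=
  (exists_sec i p hi hip hex hp y).choose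

theorem secVal_spec {B : Adeq.Alg A} (y : (kernel (uh φ₀)).obj (Adeq.pt B)) :
    tr G (cls1 (uBeta φ₀ y)) (xi i p hi hip hex hp) = eps B • tr G (i1 B) (secVal i p hi hip hex hp B y) :=
  (exists_sec i p hi hip hex hp y).choose_spec

theorem ap_secVal {B : Adeq.Alg A} (y : (kernel (uh φ₀)).obj (Adeq.pt B)) :
    ap p B (secVal i p hi hip hex hp B y) = y := by
  rw [← sub_eq_zero]
  refine kernel_ι_injective (uh φ₀) B ?_
  rw [map_zero]
  refine eq_zero_of_eps_smul B _ ?_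
  have h : eps B • tr _ (i1 B) (ap p B (secVal i p hi hip hex hp B y)) = eps B • tr _ (i1 B) y := by
    rw [← ap_tr, ← ap_smul, ← secVal_spec, ap_tr, ap_xi i p hi hip hex hp, cls1_elt]
  rw [map_sub, map_sub, smul_sub, sub_eq_zero, ← ap_tr, ← ap_smul, h, ap_smul, ap_tr]

theorem secVal_smul {B : Adeq.Alg A} (c : B) (y : (kernel (uh φ₀)).obj (Adeq.pt B)) :
    secVal i p hi hip hex hp B (c • y) = c • secVal i p hi hip hex hp B y := by
  refine sec_unique i p hi hip hex hp _ _ ?_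
  rw [← secVal_spec, uBeta_smul, ← cls1_m11, tr_comp', secVal_spec, tr_smul, ← tr_comp', tr_smul, ← mul_smul,
    show i1 B ≫ m11 B c = i1 B from CommAlgCat.hom_ext (AlgHom.ext fun b => TrivSqZeroExt.map_inl _ _)]
  congr 1
  change TrivSqZeroExt.map (LinearMap.mulLeft (B : Type u) c) (TrivSqZeroExt.inr 1) =
    TrivSqZeroExt.inr (1 : (B : Type u)) * TrivSqZeroExt.inl c
  rw [TrivSqZeroExt.map_inr, TrivSqZeroExt.inr_mul_inl]
  simp

theorem secVal_tr {B B' : Adeq.Alg A} (h : B ⟶ B') (y : (kernel (uh φ₀)).obj (Adeq.pt B)) :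
    secVal i p hi hip hex hp B' (tr _ h y) = tr G h (secVal i p hi hip hex hp B y) := by
  refine sec_unique i p hi hip hex hp _ _ ?_
  rw [← secVal_spec, uBeta_tr, ← cls1_mapD1, tr_comp', secVal_spec, tr_smul, ← tr_comp', ← tr_comp',
    show i1 B ≫ mapD1 h = h ≫ i1 B' from CommAlgCat.hom_ext (AlgHom.ext fun b => by
      exact (mapD1_apply h (TrivSqZeroExt.inl b)).trans (by simp; rfl)),
    show (mapD1 h).hom (eps B) = eps B' from (mapD1_apply h (TrivSqZeroExt.inr 1)).trans (by simp [eps])]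

theorem secVal_add {B : Adeq.Alg A} (y y' : (kernel (uh φ₀)).obj (Adeq.pt B)) :
    secVal i p hi hip hex hp B (y + y') = secVal i p hi hip hex hp B y + secVal i p hi hip hex hp B y' := by
  let e := secVal i p hi hip hex hp B y
  let e' := secVal i p hi hip hex hp B y'
  let R : G.obj (Adeq.pt (D2 B)) := eps2 B (1, 0) • tr G (i2 B) e + eps2 B (0, 1) • tr G (i2 B) e'
  have hm : ∀ g : BB B →ₗ[(B : Type u)] (B : Type u), i2 B ≫ m21 B g = i1 B := fun g =>
    CommAlgCat.hom_ext (AlgHom.ext fun b => TrivSqZeroExt.map_inl _ _)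
  have hg : ∀ (g : BB B →ₗ[(B : Type u)] (B : Type u)) a,
      (m21 B g).hom (eps2 B a) = TrivSqZeroExt.inr (g a) := fun g a => TrivSqZeroExt.map_inr _ _
  have hR : ∀ g, tr G (m21 B g) R = (TrivSqZeroExt.inr (g (1, 0)) : (D1 B : Type u)) • tr G (i1 B) e +
      (TrivSqZeroExt.inr (g (0, 1)) : (D1 B : Type u)) • tr G (i1 B) e' := fun g => by
    rw [map_add, tr_smul, tr_smul, ← tr_comp', ← tr_comp', hm, hg, hg]
  let u := tr G (cls2 ((uBeta φ₀ y).prod (uBeta φ₀ y'))) (xi i p hi hip hex hp)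
  have h0 : ap p (D2 B) (u - R) = 0 := by
    rw [map_sub, map_add, ap_smul, ap_smul, ap_tr, ap_tr, ap_tr, ap_xi i p hi hip hex hp, cls2_elt,
      ap_secVal i p hi hip hex hp, ap_secVal i p hi hip hex hp, sub_self]
  obtain ⟨w, hw⟩ := hex _ _ h0
  have hw0 : w = 0 := by
    refine eq_zero_of_three B w (hi _ ?_) (hi _ ?_) (hi _ ?_) <;> rw [ap_tr, hw, map_sub, map_zero, sub_eq_zero]
    · rw [map_add, tr_smul, tr_smul, show tr G (f2 B) u = _ from (tr_comp' G _ _ _).symm,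
        fst_xi i p hi hip hex hp (cls2_f2 _), show ∀ a, (f2 B).hom (eps2 B a) = 0 from fun a => rfl,
        show ∀ a, (f2 B).hom (eps2 B a) = 0 from fun a => rfl, zero_smul, zero_smul, add_zero]
    · rw [hR, show tr G (m21 B _) u = _ from (tr_comp' G _ _ _).symm, cls2_m21,
        show (LinearMap.fst (B : Type u) (B : Type u) (B : Type u)).restrictScalars A ∘ₗ
          (uBeta φ₀ y).prod (uBeta φ₀ y') = uBeta φ₀ y from rfl, secVal_spec]
      change eps B • tr G (i1 B) e = eps B • tr G (i1 B) e + (TrivSqZeroExt.inr 0 : (D1 B : Type u)) • tr G (i1 B) e'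
      rw [TrivSqZeroExt.inr_zero, zero_smul, add_zero]
    · rw [hR, show tr G (m21 B _) u = _ from (tr_comp' G _ _ _).symm, cls2_m21,
        show (LinearMap.snd (B : Type u) (B : Type u) (B : Type u)).restrictScalars A ∘ₗ
          (uBeta φ₀ y).prod (uBeta φ₀ y') = uBeta φ₀ y' from rfl, secVal_spec]
      change eps B • tr G (i1 B) e' = (TrivSqZeroExt.inr 0 : (D1 B : Type u)) • tr G (i1 B) e + eps B • tr G (i1 B) e'
      rw [TrivSqZeroExt.inr_zero, zero_smul, zero_add]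
  have hu : u = R := sub_eq_zero.1 (hw.symm.trans (by rw [hw0, map_zero]))
  refine sec_unique i p hi hip hex hp _ _ ?_
  have hadd := congrArg (tr G (m21 B (LinearMap.fst (B : Type u) (B : Type u) (B : Type u) + LinearMap.snd _ _ _))) hu
  have hsum : ((LinearMap.fst (B : Type u) (B : Type u) (B : Type u) + LinearMap.snd (B : Type u) (B : Type u)
      (B : Type u) : BB B →ₗ[(B : Type u)] (B : Type u)).restrictScalars A) ∘ₗ
      (uBeta φ₀ y).prod (uBeta φ₀ y') = uBeta φ₀ (y + y') := by rw [uBeta_add]; rfl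
  rw [hR, show tr G (m21 B _) u = _ from (tr_comp' G _ _ _).symm, cls2_m21, hsum, secVal_spec] at hadd
  rw [hadd, map_add, smul_add]
  simp [eps, e, e']

/-- The section. -/
def secHom : kernel (uh φ₀) ⟶ G :=
  mkHom (fun B => AddMonoidHom.mk' (secVal i p hi hip hex hp B) (secVal_add i p hi hip hex hp))
    (fun B c y => secVal_smul i p hi hip hex hp c y) (fun h y => secVal_tr i p hi hip hex hp h y)

theorem secHom_comp : secHom i p hi hip hex hp ≫ p = 𝟙 _ :=
  hom_ext fun B y => ap_secVal i p hi hip hex hp y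

end AdeqLib
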