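import Groth.Prelude.Def_W4stkadequateTF
import Groth.Agent.AdeqLib.Descent
import Groth.Agent.AdeqLib.Mk
import Mathlib.Algebra.Category.ModuleCat.Biproducts
import Mathlib.CategoryTheory.Preadditive.Injective.Basic

/-!
Tangent modules of module-valued functors.
-/

set_option autoImplicit false
set_option maxHeartbeats 800000
universe u

open CategoryTheory Limits

noncomputable section

namespace AdeqLib

variable {A : Type u} [CommRing A]

section Free

theorem mapDomain_mapRange_smul {ι κ R R' : Type*} [Semiring R] [Semiring R'] (p : ι → κ) (h : R →+* R') (r : R)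
    (a : ι →₀ R) : Finsupp.mapDomain p (Finsupp.mapRange h (map_zero h) (r • a)) =
      h r • Finsupp.mapDomain p (Finsupp.mapRange h (map_zero h) a) := by
  rw [← Finsupp.mapDomain_smul]
  congr 1
  ext i
  simp

/-- The free functor on a representable functor. -/
def freeObjAb (C : Adeq.Alg A) : (Adeq.Alg A)ᵒᵖᵒᵖ ⥤ Ab.{u + 1} where
  obj X := AddCommGrpCat.of (ULift.{u + 1} (C ⟶ X.unop.unop) →₀ (X.unop.unop : Type u))
  map {X Y} f := AddCommGrpCat.ofHom
    ((Finsupp.mapDomain.addMonoidHom fun g : ULift.{u + 1} (C ⟶ X.unop.unop) => ULift.up (g.down ≫ f.unop.unop)).comp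
      (Finsupp.mapRange.addMonoidHom f.unop.unop.hom.toRingHom.toAddMonoidHom))
  map_id X := by
    ext a
    simp [Finsupp.mapRange.addMonoidHom]
  map_comp {X Y Z} f g := by
    ext1
    refine Finsupp.addHom_ext fun i b => ?_
    change Finsupp.mapDomain (fun g' : ULift.{u + 1} (C ⟶ X.unop.unop) => ULift.up (g'.down ≫ (f ≫ g).unop.unop))
        (Finsupp.mapRange (f ≫ g).unop.unop.hom (map_zero _) (Finsupp.single i b)) =
      Finsupp.mapDomain (fun g' : ULift.{u + 1} (C ⟶ Y.unop.unop) => ULift.up (g'.down ≫ g.unop.unop))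
        (Finsupp.mapRange g.unop.unop.hom (map_zero _)
          (Finsupp.mapDomain (fun g' : ULift.{u + 1} (C ⟶ X.unop.unop) => ULift.up (g'.down ≫ f.unop.unop))
            (Finsupp.mapRange f.unop.unop.hom (map_zero _) (Finsupp.single i b))))
    simp only [Finsupp.mapRange_single, Finsupp.mapDomain_single]
    rfl

/-- The free module-valued functor on a representable functor. -/
def freeRep (C : Adeq.Alg A) : Adeq.MVF A :=
  letI (X : (Adeq.Alg A)ᵒᵖᵒᵖ) : Module ((Adeq.ringOf A).obj X) ((freeObjAb C).obj X) :=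
    inferInstanceAs (Module (X.unop.unop : Type u) (ULift.{u + 1} (C ⟶ X.unop.unop) →₀ (X.unop.unop : Type u)))
  PresheafOfModules.ofPresheaf (freeObjAb C) (by
    intro X Y f r a
    exact mapDomain_mapRange_smul (fun g : ULift.{u + 1} (C ⟶ X.unop.unop) => ULift.up (g.down ≫ f.unop.unop))
      f.unop.unop.hom.toRingHom r a)

/-- The elements of a free functor are formal sums. -/
def fel (C B : Adeq.Alg A) :
    (freeRep C).obj (Adeq.pt B) ≃ₗ[(B : Type u)] (ULift.{u + 1} (C ⟶ B) →₀ (B : Type u)) :=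
  LinearEquiv.refl (B : Type u) _

theorem fel_tr {C B B' : Adeq.Alg A} (h : B ⟶ B') (a : (freeRep C).obj (Adeq.pt B)) :
    fel C B' (tr (freeRep C) h a) =
      Finsupp.mapDomain (fun g => ULift.up (g.down ≫ h)) (Finsupp.mapRange h.hom (map_zero h.hom) (fel C B a)) := rfl

/-- The value of the map given by an element. -/
def evAt (F : Adeq.MVF A) {C : Adeq.Alg A} (x : F.obj (Adeq.pt C)) (B : Adeq.Alg A) :
    (freeRep C).obj (Adeq.pt B) →ₗ[(B : Type u)] F.obj (Adeq.pt B) :=
  (Finsupp.linearCombination (B : Type u) fun g : ULift.{u + 1} (C ⟶ B) => tr F g.down x) ∘ₗ (fel C B).toLinearMap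

theorem evAt_apply (F : Adeq.MVF A) {C : Adeq.Alg A} (x : F.obj (Adeq.pt C)) (B : Adeq.Alg A)
    (a : (freeRep C).obj (Adeq.pt B)) : evAt F x B a = (fel C B a).sum fun g b => b • tr F g.down x := rfl

/-- The map out of a free functor given by an element. -/
def ev {F : Adeq.MVF A} {C : Adeq.Alg A} (x : F.obj (Adeq.pt C)) : freeRep C ⟶ F :=
  mkHom (fun B => (evAt F x B).toAddMonoidHom) (fun B b a => (evAt F x B).map_smul b a) (fun {B B'} h a => by
    change evAt F x B' (tr _ h a) = tr F h (evAt F x B a)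
    obtain ⟨a, rfl⟩ := (fel C B).symm.surjective a
    induction a using Finsupp.induction_linear with
    | zero => simp
    | add a b ha hb => simp only [map_add, ha, hb]
    | single g b =>
      rw [evAt_apply, evAt_apply, fel_tr, LinearEquiv.apply_symm_apply, Finsupp.mapRange_single,
        Finsupp.mapDomain_single, Finsupp.sum_single_index, Finsupp.sum_single_index, tr_smul, tr_comp]
      · simp
      · simp)

theorem ap_ev {F : Adeq.MVF A} {C : Adeq.Alg A} (x : F.obj (Adeq.pt C)) (B : Adeq.Alg A)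
    (a : (freeRep C).obj (Adeq.pt B)) : ap (ev x) B a = (fel C B a).sum fun g b => b • tr F g.down x := rfl

/-- The map of free functors given by a map of algebras. -/
def pre {C C' : Adeq.Alg A} (π : C ⟶ C') : freeRep C' ⟶ freeRep C :=
  ev ((fel C C').symm (Finsupp.single (ULift.up π) 1))

theorem fel_pre {C C' : Adeq.Alg A} (π : C ⟶ C') (B : Adeq.Alg A) (a : (freeRep C').obj (Adeq.pt B)) :
    fel C B (ap (pre π) B a) = Finsupp.mapDomain (fun g => ULift.up (π ≫ g.down)) (fel C' B a) := by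
  rw [pre, ap_ev, map_finsuppSum, Finsupp.mapDomain]
  refine Finsupp.sum_congr fun g _ => ?_
  rw [map_smul, fel_tr, LinearEquiv.apply_symm_apply, Finsupp.mapRange_single, Finsupp.mapDomain_single,
    Finsupp.smul_single, map_one, smul_eq_mul, mul_one]

end Free

section Tangent

variable (B : Adeq.Alg A) {N N' N'' : ModuleCat.{u} B}

open AdeqTF

theorem map_comp' (g : N ⟶ N') (g' : N' ⟶ N'') : AdeqTF.map B (g ≫ g') = AdeqTF.map B g ≫ AdeqTF.map B g' := by
  apply CommAlgCat.hom_ext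
  refine AlgHom.ext fun x => ?_
  change TrivSqZeroExt.map (g'.hom ∘ₗ g.hom) x = TrivSqZeroExt.map g'.hom (TrivSqZeroExt.map g.hom x)
  rw [TrivSqZeroExt.map_comp_map]
  rfl

theorem map_zero' : AdeqTF.map B (0 : N ⟶ N') = AdeqTF.fst B N ≫ AdeqTF.inl B N' := by
  apply CommAlgCat.hom_ext
  refine AlgHom.ext fun x => ?_
  change TrivSqZeroExt.map (0 : N →ₗ[(B : Type u)] N') x = TrivSqZeroExt.inl x.fst
  apply TrivSqZeroExt.ext
  · rw [TrivSqZeroExt.fst_map, TrivSqZeroExt.fst_inl]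
  · rw [TrivSqZeroExt.snd_map, TrivSqZeroExt.snd_inl, LinearMap.zero_apply]

theorem map_id' : AdeqTF.map B (𝟙 N) = 𝟙 _ := by
  apply CommAlgCat.hom_ext
  refine AlgHom.ext fun x => ?_
  change TrivSqZeroExt.map LinearMap.id x = x
  rw [TrivSqZeroExt.map_id]
  rfl

theorem mem_tangent (F : Adeq.MVF A) (x : F.obj (Adeq.pt (ext B N))) :
    x ∈ tangent B N F ↔ tr F (fst B N) x = 0 := Iff.rfl

variable (F : Adeq.MVF A)

theorem tangentMap_val (g : N ⟶ N') (x : tangent B N F) :
    (tangentMap B F g x).1 = tr F (AdeqTF.map B g) x.1 := rfl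

theorem tangentMap_comp (g : N ⟶ N') (g' : N' ⟶ N'') (x : tangent B N F) :
    tangentMap B F (g ≫ g') x = tangentMap B F g' (tangentMap B F g x) :=
  Subtype.ext (by rw [tangentMap_val, map_comp', tr_comp]; rfl)

theorem tangentMap_zero (x : tangent B N F) : tangentMap B F (0 : N ⟶ N') x = 0 :=
  Subtype.ext (by rw [tangentMap_val, map_zero', tr_comp, (mem_tangent B F x.1).1 x.2, map_zero]; rfl)

theorem tangentMap_id (x : tangent B N F) : tangentMap B F (𝟙 N) x = x :=
  Subtype.ext (by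
    rw [tangentMap_val, map_id']
    change F.map (𝟙 (Adeq.pt (ext B N))) x.1 = x.1
    rw [PresheafOfModules.map_id]
    rfl)

variable {F} {G : Adeq.MVF A}

/-- The map of tangent modules given by a map of functors. -/
def tmap (φ : F ⟶ G) (N : ModuleCat.{u} B) : tangent B N F →+ tangent B N G :=
  ((ap φ (ext B N)).toAddMonoidHom.comp (tangent B N F).subtype).codRestrict (tangent B N G) fun x => by
    change tr G (fst B N) (ap φ (ext B N) x.1) = 0
    rw [← ap_tr, (mem_tangent B F x.1).1 x.2, map_zero]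

theorem tmap_val (φ : F ⟶ G) (x : tangent B N F) : (tmap B φ N x).1 = ap φ (ext B N) x.1 := rfl

theorem tmap_tangentMap (φ : F ⟶ G) (g : N ⟶ N') (x : tangent B N F) :
    tmap B φ N' (tangentMap B F g x) = tangentMap B G g (tmap B φ N x) :=
  Subtype.ext (ap_tr φ (AdeqTF.map B g) x.1)

variable {C : ShortComplex (Adeq.MVF A)} (hC : C.ShortExact)
include hC

theorem tmap_injective : Function.Injective (tmap B C.f N) := fun x y h =>
  Subtype.ext ((mono_iff C.f).1 hC.mono_f (ext B N) (congrArg Subtype.val h))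

theorem tmap_exact (y : tangent B N C.X₂) (hy : tmap B C.g N y = 0) : ∃ x, tmap B C.f N x = y := by
  obtain ⟨x, hx⟩ := (exact_iff C).1 hC.exact (ext B N) y.1 (congrArg Subtype.val hy)
  refine ⟨⟨x, (mem_tangent B C.X₁ x).2 ((mono_iff C.f).1 hC.mono_f B ?_)⟩, Subtype.ext hx⟩
  rw [ap_tr, hx, map_zero]
  exact (mem_tangent B C.X₂ y.1).1 y.2

theorem tmap_surjective : Function.Surjective (tmap B C.g N) := fun z => by
  obtain ⟨y, hy⟩ := (epi_iff C.g).1 hC.epi_g (ext B N) z.1
  obtain ⟨a, ha⟩ := (exact_iff C).1 hC.exact B (tr C.X₂ (fst B N) y) (by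
    rw [ap_tr, hy]
    exact (mem_tangent B C.X₃ z.1).1 z.2)
  refine ⟨⟨y - tr C.X₂ (inl B N) (ap C.f B a), (mem_tangent B C.X₂ _).2 ?_⟩, Subtype.ext ?_⟩
  · rw [map_sub, ← tr_comp, show inl B N ≫ fst B N = 𝟙 B from CommAlgCat.hom_ext (AlgHom.ext fun b => rfl), ha]
    change _ - C.X₂.map (𝟙 (Adeq.pt B)) _ = 0
    rw [PresheafOfModules.map_id]
    exact sub_self _
  · rw [tmap_val, map_sub, ap_tr C.g, hy, show ap C.g B (ap C.f B a) = 0 by rw [← ap_comp, C.zero, ap_zero],
      map_zero, sub_zero]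

end Tangent

/-- Right exactness of the tangent functors. -/
abbrev RE (F : Adeq.MVF A) : Prop :=
  ∀ (B : Adeq.Alg A) (S : ShortComplex (ModuleCat.{u} B)), S.ShortExact →
    Function.Surjective (AdeqTF.tangentMap B F S.g) ∧
      (AdeqTF.tangentMap B F S.g).ker = (AdeqTF.tangentMap B F S.f).range

theorem range_le_ker (F : Adeq.MVF A) (B : Adeq.Alg A) (S : ShortComplex (ModuleCat.{u} B)) :
    (AdeqTF.tangentMap B F S.f).range ≤ (AdeqTF.tangentMap B F S.g).ker := by
  rintro _ ⟨x, rfl⟩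
  rw [AddMonoidHom.mem_ker, ← tangentMap_comp, S.zero, tangentMap_zero]

theorem re_quotient {C : ShortComplex (Adeq.MVF A)} (hC : C.ShortExact) (h₁ : RE C.X₁) (h₂ : RE C.X₂) :
    RE C.X₃ := by
  intro B S hS
  obtain ⟨hs₁, -⟩ := h₁ B S hS
  obtain ⟨hs₂, he₂⟩ := h₂ B S hS
  refine ⟨fun z => ?_, le_antisymm (fun z hz => ?_) (range_le_ker C.X₃ B S)⟩
  · obtain ⟨y, rfl⟩ := tmap_surjective B hC z
    obtain ⟨y, rfl⟩ := hs₂ y
    exact ⟨tmap B C.g _ y, (tmap_tangentMap B C.g S.g y).symm⟩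
  · obtain ⟨y, rfl⟩ := tmap_surjective B hC z
    rw [AddMonoidHom.mem_ker, ← tmap_tangentMap] at hz
    obtain ⟨a, ha⟩ := tmap_exact B hC _ hz
    obtain ⟨a, rfl⟩ := hs₁ a
    have h : y - tmap B C.f _ a ∈ (AdeqTF.tangentMap B C.X₂ S.g).ker := by
      rw [AddMonoidHom.mem_ker, map_sub, ← tmap_tangentMap, ha, sub_self]
    rw [he₂] at h
    obtain ⟨w, hw⟩ := h
    refine ⟨tmap B C.g _ w, ?_⟩
    rw [← tmap_tangentMap, hw, map_sub]
    refine (congrArg _ ?_).trans (sub_zero _)
    refine Subtype.ext ?_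
    rw [tmap_val, tmap_val, ← ap_comp, C.zero, ap_zero]
    rfl

theorem re_extension {C : ShortComplex (Adeq.MVF A)} (hC : C.ShortExact) (h₁ : RE C.X₁) (h₃ : RE C.X₃) :
    RE C.X₂ := by
  intro B S hS
  obtain ⟨hs₁, he₁⟩ := h₁ B S hS
  obtain ⟨hs₃, he₃⟩ := h₃ B S hS
  refine ⟨fun z => ?_, le_antisymm (fun y hy => ?_) (range_le_ker C.X₂ B S)⟩
  · obtain ⟨h, hh⟩ := hs₃ (tmap B C.g _ z)
    obtain ⟨y, rfl⟩ := tmap_surjective B hC h
    obtain ⟨a, ha⟩ := tmap_exact B hC (z - AdeqTF.tangentMap B C.X₂ S.g y) (by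
      rw [map_sub, tmap_tangentMap, hh, sub_self])
    obtain ⟨a, rfl⟩ := hs₁ a
    refine ⟨y + tmap B C.f _ a, ?_⟩
    rw [map_add, ← tmap_tangentMap B C.f, ha, add_sub_cancel]
  · rw [AddMonoidHom.mem_ker] at hy
    have h : tmap B C.g _ y ∈ (AdeqTF.tangentMap B C.X₃ S.g).ker := by
      rw [AddMonoidHom.mem_ker, ← tmap_tangentMap, hy, map_zero]
    rw [he₃] at h
    obtain ⟨w, hw⟩ := h
    obtain ⟨w, rfl⟩ := tmap_surjective B hC w
    obtain ⟨a, ha⟩ := tmap_exact B hC (y - AdeqTF.tangentMap B C.X₂ S.f w) (by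
      rw [map_sub, tmap_tangentMap, hw, sub_self])
    have h0 : AdeqTF.tangentMap B C.X₁ S.g a = 0 := tmap_injective B hC (by
      rw [tmap_tangentMap, ha, map_sub, hy, ← tangentMap_comp, S.zero, tangentMap_zero, sub_zero, map_zero])
    obtain ⟨a', ha'⟩ := (he₁.le h0 : a ∈ (AdeqTF.tangentMap B C.X₁ S.f).range)
    refine ⟨w + tmap B C.f _ a', ?_⟩
    rw [map_add, ← tmap_tangentMap, ha', ha, add_sub_cancel]

theorem bijective_biprod {F : Adeq.MVF A} (hF : RE F) (B : Adeq.Alg A) (N₁ N₂ : ModuleCat.{u} B) :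
    Function.Bijective ((AdeqTF.tangentMap B F (biprod.inl : N₁ ⟶ N₁ ⊞ N₂)).coprod
      (AdeqTF.tangentMap B F (biprod.inr : N₂ ⟶ N₁ ⊞ N₂))) := by
  obtain ⟨-, he⟩ := hF B (ShortComplex.mk (biprod.inl : N₁ ⟶ N₁ ⊞ N₂) biprod.snd biprod.inl_snd)
    (ShortComplex.Splitting.shortExact { r := biprod.fst, s := biprod.inr })
  have hfst : ∀ x y, AdeqTF.tangentMap B F (biprod.fst : N₁ ⊞ N₂ ⟶ N₁)
      (AdeqTF.tangentMap B F (biprod.inl : N₁ ⟶ N₁ ⊞ N₂) x + AdeqTF.tangentMap B F (biprod.inr : N₂ ⟶ N₁ ⊞ N₂) y) = x :=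
    fun x y => by rw [map_add, ← tangentMap_comp, ← tangentMap_comp, biprod.inl_fst, biprod.inr_fst, tangentMap_id,
      tangentMap_zero, add_zero]
  have hsnd : ∀ x y, AdeqTF.tangentMap B F (biprod.snd : N₁ ⊞ N₂ ⟶ N₂)
      (AdeqTF.tangentMap B F (biprod.inl : N₁ ⟶ N₁ ⊞ N₂) x + AdeqTF.tangentMap B F (biprod.inr : N₂ ⟶ N₁ ⊞ N₂) y) = y :=
    fun x y => by rw [map_add, ← tangentMap_comp, ← tangentMap_comp, biprod.inl_snd, biprod.inr_snd, tangentMap_id,
      tangentMap_zero, zero_add]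
  refine ⟨fun p q h => ?_, fun z => ?_⟩
  · simp only [AddMonoidHom.coprod_apply] at h
    exact Prod.ext ((hfst _ _).symm.trans ((congrArg _ h).trans (hfst _ _)))
      ((hsnd _ _).symm.trans ((congrArg _ h).trans (hsnd _ _)))
  · let y := AdeqTF.tangentMap B F (biprod.snd : N₁ ⊞ N₂ ⟶ N₂) z
    obtain ⟨x, hx⟩ := he.le (show z - AdeqTF.tangentMap B F biprod.inr y ∈
        (AdeqTF.tangentMap B F (biprod.snd : N₁ ⊞ N₂ ⟶ N₂)).ker by
      rw [AddMonoidHom.mem_ker, map_sub, ← tangentMap_comp, biprod.inr_snd, tangentMap_id, sub_self])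
    refine ⟨(x, y), ?_⟩
    rw [AddMonoidHom.coprod_apply]
    exact (congrArg (· + _) hx).trans (sub_add_cancel _ _)

theorem surjective_of_injective (I : Adeq.MVF A) [Injective I] (B : Adeq.Alg A) {N N' : ModuleCat.{u} B}
    (g : N ⟶ N') (hg : Function.Surjective g) : Function.Surjective (AdeqTF.tangentMap B I g) := by
  intro x
  let π := AdeqTF.map B g
  let f := AdeqTF.fst B N
  let f' := AdeqTF.fst B N'
  have hπ : Function.Surjective π.hom := fun z => by
    obtain ⟨n, hn⟩ := hg z.snd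
    refine ⟨TrivSqZeroExt.inl z.fst + TrivSqZeroExt.inr n, ?_⟩
    change TrivSqZeroExt.map g.hom _ = z
    rw [map_add, TrivSqZeroExt.map_inl, TrivSqZeroExt.map_inr]
    exact (congrArg (TrivSqZeroExt.inl z.fst + TrivSqZeroExt.inr ·) hn).trans (TrivSqZeroExt.inl_fst_add_inr_snd_eq z)
  have : Epi π := (ConcreteCategory.epi_of_surjective π hπ)
  let d : freeRep (AdeqTF.ext B N') ⊞ freeRep B ⟶ freeRep (AdeqTF.ext B N) := biprod.desc (pre π) (pre f)
  let Φ₀ : freeRep (AdeqTF.ext B N') ⊞ freeRep B ⟶ I := biprod.desc (ev x.1) 0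
  have h0 : kernel.ι d ≫ Φ₀ = 0 := hom_ext fun D w => by
    let v := ap (kernel.ι d) D w
    let a := ap (biprod.fst : freeRep (AdeqTF.ext B N') ⊞ freeRep B ⟶ _) D v
    let b := ap (biprod.snd : freeRep (AdeqTF.ext B N') ⊞ freeRep B ⟶ _) D v
    have hd : ap (pre π) D a + ap (pre f) D b = 0 := by
      have hdd : ap d D v = ap (pre π) D a + ap (pre f) D b :=
        congrArg (fun k => ap k D v) (biprod.desc_eq (f := pre π) (g := pre f))
      exact hdd.symm.trans (kernel_condition_apply d D w)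
    have hdd : ap Φ₀ D v = ap (ev x.1) D a + 0 :=
      congrArg (fun k => ap k D v) (biprod.desc_eq (f := ev x.1) (g := (0 : freeRep B ⟶ I)))
    rw [ap_comp, ap_zero]
    refine hdd.trans ?_
    rw [add_zero, ap_ev]
    refine Finset.sum_eq_zero fun c hc => ?_
    obtain ⟨k, hk⟩ : ∃ k : ULift.{u + 1} (B ⟶ D), ULift.up (f ≫ k.down) = ULift.up (π ≫ c.down) := by
      by_contra hne
      have h1 := congrArg (fun z => fel _ D z (ULift.up (π ≫ c.down))) hd
      simp only [map_add, map_zero, Finsupp.add_apply, Finsupp.coe_zero, Pi.zero_apply, fel_pre] at h1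
      rw [Finsupp.mapDomain_apply (fun p q h => ULift.ext _ _ ((cancel_epi π).1 (congrArg ULift.down h))),
        Finsupp.mapDomain_notin_range _ _ (by rintro ⟨k, hk⟩; exact hne ⟨k, hk⟩), add_zero] at h1
      exact Finsupp.mem_support_iff.1 hc h1
    have hc' : c.down = f' ≫ k.down := (cancel_epi π).1 (by
      rw [← Category.assoc, show π ≫ f' = f from AdeqTF.map_fst B g]
      exact (congrArg ULift.down hk).symm)
    show (fel _ D a) c • tr I c.down x.1 = 0
    rw [hc', tr_comp, (mem_tangent B I x.1).1 x.2, map_zero, smul_zero]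
  have hmono : Mono (cokernel.desc (kernel.ι d) d (kernel.condition d)) := (mono_iff _).2 fun D =>
    (injective_iff_map_eq_zero _).2 fun q hq => by
      obtain ⟨v, rfl⟩ := (epi_iff (cokernel.π (kernel.ι d))).1 inferInstance D q
      rw [← ap_comp, cokernel.π_desc] at hq
      obtain ⟨w, rfl⟩ := exists_kernel_lift d D v hq
      rw [← ap_comp, cokernel.condition, ap_zero]
  let Φ : freeRep (AdeqTF.ext B N) ⟶ I :=
    Injective.factorThru (cokernel.desc (kernel.ι d) Φ₀ h0) (cokernel.desc (kernel.ι d) d (kernel.condition d))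
  have hΦ : d ≫ Φ = Φ₀ := by
    rw [← cokernel.π_desc (kernel.ι d) d (kernel.condition d), Category.assoc, Injective.comp_factorThru,
      cokernel.π_desc]
  let one : ∀ C : Adeq.Alg A, (freeRep C).obj (Adeq.pt C) := fun C =>
    (fel C C).symm (Finsupp.single (ULift.up (𝟙 C)) 1)
  have hone : ∀ {C C' : Adeq.Alg A} (p : C ⟶ C'), tr (freeRep C) p (one C) = ap (pre p) C' (one C') := fun {C C'} p =>
    (fel C C').injective (by
      rw [fel_tr, fel_pre, LinearEquiv.apply_symm_apply, LinearEquiv.apply_symm_apply, Finsupp.mapRange_single,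
        Finsupp.mapDomain_single, Finsupp.mapDomain_single, map_one, Category.id_comp, Category.comp_id])
  let y := ap Φ (AdeqTF.ext B N) (one _)
  have hy : y ∈ AdeqTF.tangent B N I := (mem_tangent B I y).2 (by
    rw [← ap_tr, hone, ← ap_comp, show pre f ≫ Φ = biprod.inr ≫ d ≫ Φ by rw [biprod.inr_desc_assoc], hΦ,
      biprod.inr_desc, ap_zero])
  refine ⟨⟨y, hy⟩, Subtype.ext ?_⟩
  rw [tangentMap_val]
  change tr I π y = x.1
  rw [← ap_tr, hone, ← ap_comp, show pre π ≫ Φ = biprod.inl ≫ d ≫ Φ by rw [biprod.inl_desc_assoc], hΦ,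
    biprod.inl_desc, ap_ev, LinearEquiv.apply_symm_apply, Finsupp.sum_single_index, one_smul]
  · change I.map (𝟙 (Adeq.pt _)) _ = _
    rw [PresheafOfModules.map_id]
    rfl
  · simp

end AdeqLib
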