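import Groth.Agent.AdeqLib.Flat
import Mathlib.RingTheory.Flat.FaithfullyFlat.Algebra
import Mathlib.RingTheory.Polynomial.Basic
import Mathlib.RingTheory.Localization.Away.Basic
import Mathlib.RingTheory.Flat.Localization
import Mathlib.RingTheory.RingHom.FaithfullyFlat
import Mathlib.RingTheory.Spectrum.Prime.Basic

/-!
Compatibility with units forces linearity.
-/

set_option autoImplicit false
universe u

open CategoryTheory Limits TensorProduct Polynomial

noncomputable section

namespace AdeqLib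

theorem faithfullyFlat_away {B : Type u} [CommRing B] (b : B) :
    (algebraMap B (Localization.Away ((X : B[X]) * (1 + C b * X)))).FaithfullyFlat := by
  let g : B[X] := X * (1 + C b * X)
  let L := Localization.Away g
  have : Module.Flat B[X] L := IsLocalization.flat L (Submonoid.powers g)
  have : Module.Flat B L := Module.Flat.trans B B[X] L
  refine RingHom.faithfullyFlat_algebraMap_iff.2 (Module.FaithfullyFlat.of_comap_surjective fun p => ?_)
  let P : Ideal B[X] := p.asIdeal.map C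
  have hP : P.IsPrime := (Ideal.isPrime_map_C_iff_isPrime p.asIdeal).2 p.isPrime
  have hg : g ∉ P := fun h => by
    have h1 := Ideal.mem_map_C_iff.1 h 1
    simp [g, coeff_X_mul] at h1
    exact p.isPrime.ne_top ((Ideal.eq_top_iff_one _).2 h1)
  have hd : Disjoint (Submonoid.powers g : Set B[X]) P := by
    rw [Set.disjoint_left]
    rintro _ ⟨n, rfl⟩ h
    exact hg (hP.mem_of_pow_mem n h)
  refine ⟨⟨P.map (algebraMap B[X] L), IsLocalization.isPrime_of_isPrime_disjoint (Submonoid.powers g) L P hP hd⟩,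
    PrimeSpectrum.ext ?_⟩
  change (P.map (algebraMap B[X] L)).comap (algebraMap B L) = p.asIdeal
  rw [IsScalarTower.algebraMap_eq B B[X] L, ← Ideal.comap_comap,
    show Ideal.comap (algebraMap B[X] L) (P.map (algebraMap B[X] L)) = P from
      IsLocalization.under_map_of_isPrime_disjoint (Submonoid.powers g) L hP hd]
  ext x
  rw [Ideal.mem_comap, Polynomial.algebraMap_eq]
  exact ⟨fun h => by simpa using Ideal.mem_map_C_iff.1 h 0, fun h => Ideal.mem_map_of_mem C h⟩

variable {A : Type u} [CommRing A]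

theorem eq_zero_of_tr_eq_zero (G : Adeq.MVF A) {B D : Adeq.Alg A} (f : B ⟶ D) (hf : f.hom.toRingHom.FaithfullyFlat)
    (hG : IsIso (G.bc f)) (z : G.obj (Adeq.pt B)) (hz : tr G f z = 0) : z = 0 := by
  letI : Algebra (B : Type u) (D : Type u) := f.hom.toRingHom.toAlgebra
  haveI : Module.FaithfullyFlat (B : Type u) (D : Type u) := hf
  have h4 : (G.bc f).hom ((1 : (D : Type u)) ⊗ₜ[(B : Type u)] z) = (G.bc f).hom 0 :=
    ((bc_tmul f G 1 z).trans ((one_smul _ _).trans hz)).trans (map_zero _).symm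
  have h5 := ((ConcreteCategory.isIso_iff_bijective (G.bc f)).1 hG).1 h4
  exact (Module.FaithfullyFlat.one_tmul_eq_zero_iff (R := (B : Type u)) (A := (D : Type u))
    (M := G.obj (Adeq.pt B)) z).1 h5

theorem smul_comm_of_units (F G : Adeq.MVF A) (φ : ∀ B : Adeq.Alg A, F.obj (Adeq.pt B) → G.obj (Adeq.pt B))
    (hnat : ∀ ⦃B B' : Adeq.Alg A⦄ (f : B ⟶ B') (x : F.obj (Adeq.pt B)), φ B' (tr F f x) = tr G f (φ B x))
    (hadd : ∀ (B : Adeq.Alg A) (x y : F.obj (Adeq.pt B)), φ B (x + y) = φ B x + φ B y)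
    (hunit : ∀ (B : Adeq.Alg A) (v : (B : Type u)ˣ) (x : F.obj (Adeq.pt B)), φ B ((v : B) • x) = (v : B) • φ B x)
    (hG : ∀ ⦃B B' : Adeq.Alg A⦄ (f : B ⟶ B'), f.hom.toRingHom.Flat → IsIso (G.bc f))
    (B : Adeq.Alg A) (b : B) (x : F.obj (Adeq.pt B)) : φ B (b • x) = b • φ B x := by
  let g : (B : Type u)[X] := X * (1 + C b * X)
  let L := Localization.Away g
  let D : Adeq.Alg A := Adeq.algOf A L
  let f : B ⟶ D := CommAlgCat.ofHom (IsScalarTower.toAlgHom A (B : Type u) L)
  have hfb : ∀ c : B, f.hom c = algebraMap (B : Type u) L c := fun c => rfl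
  have htop : IsUnit (algebraMap (B : Type u)[X] L g) := IsLocalization.Away.algebraMap_isUnit g
  rw [map_mul, IsUnit.mul_iff] at htop
  obtain ⟨⟨t, ht⟩, ⟨w, hw⟩⟩ := htop
  have hwt : (w : L) = 1 + (t : L) * f.hom b := by
    rw [hw, ht, map_add, map_one, map_mul, hfb, IsScalarTower.algebraMap_apply (B : Type u) (B : Type u)[X] L,
      Polynomial.algebraMap_eq]
    ring
  let X₀ : F.obj (Adeq.pt D) := tr F f x
  let Y₀ : G.obj (Adeq.pt D) := tr G f (φ B x)
  have h1 : φ D ((w : (D : Type u)) • X₀) = (w : (D : Type u)) • φ D X₀ := hunit D w X₀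
  have h2 : φ D ((t : (D : Type u)) • f.hom b • X₀) = (t : (D : Type u)) • φ D (f.hom b • X₀) :=
    hunit D t (f.hom b • X₀)
  rw [show (w : (D : Type u)) = 1 + (t : (D : Type u)) * f.hom b from hwt, add_smul, one_smul, mul_smul, hadd, h2,
    add_smul, one_smul, mul_smul] at h1
  have h3 := (Units.isUnit t).smul_left_cancel.1 (add_left_cancel h1)
  rw [show f.hom b • X₀ = tr F f (b • x) from (tr_smul F f b x).symm, hnat, hnat, ← tr_smul] at h3
  have hinj : ∀ z : G.obj (Adeq.pt B), tr G f z = 0 → z = 0 := fun z =>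
    eq_zero_of_tr_eq_zero G f (faithfullyFlat_away b) (hG f (faithfullyFlat_away b).flat) z
  refine sub_eq_zero.1 (hinj _ ?_)
  rw [map_sub, h3, sub_self]

end AdeqLib
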