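import Groth.Agent.AdeqLib.Mk
import Mathlib.Algebra.TrivSqZeroExt.Basic
import Mathlib.LinearAlgebra.TensorProduct.Basis
import Mathlib.LinearAlgebra.FreeModule.Finite.Basic
import Mathlib.RingTheory.Finiteness.Cardinality

/-!
The universal element of a linearly adequate functor in a square-zero extension.
-/

set_option autoImplicit false
universe u

open CategoryTheory Limits TensorProduct

noncomputable section

namespace AdeqLib

variable {A : Type u} [CommRing A] {P P' : ModuleCat.{u + 1} A} [Module.Finite A P] [Module.Free A P]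
  [Module.Finite A P'] [Module.Free A P'] (φ₀ : P ⟶ P')

/-- The rank of the source. -/
abbrev urk (P : ModuleCat.{u + 1} A) [Module.Finite A P] [Module.Free A P] : ℕ :=
  Fintype.card (Module.Free.ChooseBasisIndex A P)

/-- A basis of the source. -/
abbrev ubas (P : ModuleCat.{u + 1} A) [Module.Finite A P] [Module.Free A P] : Module.Basis (Fin (urk P)) A P :=
  (Module.Free.chooseBasis A P).reindex (Fintype.equivFin _)

/-- The relations on coordinates. -/
def uRel : Submodule A (Fin (urk P) → A) :=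
  Submodule.span A (Set.range fun j => fun i => (Module.Free.chooseBasis A P').repr (φ₀.hom (ubas P i)) j)

/-- The module of linear coordinates. -/
abbrev UQ : Type u := (Fin (urk P) → A) ⧸ uRel φ₀

/-- The coordinates. -/
def uq (i : Fin (urk P)) : UQ φ₀ := Submodule.Quotient.mk (Pi.single i 1)

theorem sum_uq (j : Module.Free.ChooseBasisIndex A P') :
    ∑ i, (Module.Free.chooseBasis A P').repr (φ₀.hom (ubas P i)) j • uq φ₀ i = 0 := by
  classical
  rw [show ∑ i, (Module.Free.chooseBasis A P').repr (φ₀.hom (ubas P i)) j • uq φ₀ i =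
      (uRel φ₀).mkQ (∑ i, (Module.Free.chooseBasis A P').repr (φ₀.hom (ubas P i)) j • Pi.single i 1) by
    simp [uq, map_sum], Submodule.mkQ_apply, Submodule.Quotient.mk_eq_zero,
    show (∑ i, (Module.Free.chooseBasis A P').repr (φ₀.hom (ubas P i)) j • (Pi.single i 1 : Fin (urk P) → A)) =
      fun i => (Module.Free.chooseBasis A P').repr (φ₀.hom (ubas P i)) j from (pi_eq_sum_univ' _).symm]
  exact Submodule.subset_span ⟨j, rfl⟩

/-- The algebra of the universal element. -/
abbrev uS : Adeq.Alg A := Adeq.algOf A (TrivSqZeroExt A (UQ φ₀))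

/-- The universal tensor. -/
def uT : (TrivSqZeroExt A (UQ φ₀)) ⊗[A] P := ∑ i, TrivSqZeroExt.inr (uq φ₀ i) ⊗ₜ[A] ubas P i

theorem baseChange_uT : φ₀.hom.baseChange (TrivSqZeroExt A (UQ φ₀)) (uT φ₀) = 0 := by
  classical
  simp only [uT, map_sum, LinearMap.baseChange_tmul]
  conv_lhs =>
    enter [2, i]
    rw [← (Module.Free.chooseBasis A P').sum_repr (φ₀.hom (ubas P i)), TensorProduct.tmul_sum]
    enter [2, j]
    rw [← TensorProduct.smul_tmul, ← TrivSqZeroExt.inr_smul]
  rw [Finset.sum_comm]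
  refine Finset.sum_eq_zero fun j _ => ?_
  rw [← TensorProduct.sum_tmul, ← TrivSqZeroExt.inr_sum, sum_uq, TrivSqZeroExt.inr_zero, TensorProduct.zero_tmul]

theorem exists_uElt : ∃ y : (kernel (uh φ₀)).obj (Adeq.pt (uS φ₀)),
    el P (uS φ₀) (ap (kernel.ι (uh φ₀)) (uS φ₀) y) = uT φ₀ := by
  obtain ⟨y, hy⟩ := exists_kernel_lift (uh φ₀) (uS φ₀) ((el P (uS φ₀)).symm (uT φ₀))
    ((ap_uh_eq_zero_iff φ₀ (uS φ₀) _).2 (by rw [LinearEquiv.apply_symm_apply]; exact baseChange_uT φ₀))
  exact ⟨y, by rw [hy, LinearEquiv.apply_symm_apply]⟩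

/-- The universal element. -/
def uElt : (kernel (uh φ₀)).obj (Adeq.pt (uS φ₀)) := (exists_uElt φ₀).choose

theorem el_uElt : el P (uS φ₀) (ap (kernel.ι (uh φ₀)) (uS φ₀) (uElt φ₀)) = uT φ₀ := (exists_uElt φ₀).choose_spec

section sq

variable {Q : Type u} [AddCommGroup Q] [Module A Q] [Module Aᵐᵒᵖ Q] [IsCentralScalar A Q]
  (B : Adeq.Alg A) {N : Type u} [AddCommGroup N] [Module A N] [Module B N] [Module (B : Type u)ᵐᵒᵖ N]
  [IsCentralScalar (B : Type u) N] [IsScalarTower A (B : Type u) N]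

/-- The map of square-zero extensions given by a linear map. -/
def sq (b : Q →ₗ[A] N) : TrivSqZeroExt A Q →ₐ[A] TrivSqZeroExt (B : Type u) N :=
  TrivSqZeroExt.lift (Algebra.ofId A _) ((TrivSqZeroExt.inrHom (B : Type u) N).restrictScalars A ∘ₗ b)
    (fun x z => TrivSqZeroExt.inr_mul_inr _ _ _)
    (fun r x => by rw [map_smul, Algebra.smul_def]; rfl)
    (fun r x => by rw [op_smul_eq_smul, map_smul, Algebra.smul_def, mul_comm]; rfl)

theorem sq_apply (b : Q →ₗ[A] N) (z : TrivSqZeroExt A Q) :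
    sq B b z = TrivSqZeroExt.inl (algebraMap A (B : Type u) z.fst) + TrivSqZeroExt.inr (b z.snd) := by
  rw [← TrivSqZeroExt.algebraMap_eq_inl']
  exact TrivSqZeroExt.lift_def _ _ _ _ _ z

theorem fst_sq (b : Q →ₗ[A] N) (z : TrivSqZeroExt A Q) : (sq B b z).fst = algebraMap A (B : Type u) z.fst := by
  simp [sq_apply]

theorem snd_sq (b : Q →ₗ[A] N) (z : TrivSqZeroExt A Q) : (sq B b z).snd = b z.snd := by
  simp [sq_apply]

end sq

variable {B : Adeq.Alg A}

/-- The coordinates of an element, as a linear map. -/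
def uBeta (y : (kernel (uh φ₀)).obj (Adeq.pt B)) : UQ φ₀ →ₗ[A] (B : Type u) :=
  (uRel φ₀).liftQ (Fintype.linearCombination A fun i =>
    ((ubas P).baseChange B).repr (el P B (ap (kernel.ι (uh φ₀)) B y)) i) (by
      refine Submodule.span_le.2 ?_
      rintro _ ⟨j, rfl⟩
      have h0 := kernel_condition_apply (uh φ₀) B y
      rw [ap_uh_eq_zero_iff, ← ((ubas P).baseChange B).sum_repr (el P B (ap (kernel.ι (uh φ₀)) B y))] at h0
      have h1 := congrArg (fun t => ((Module.Free.chooseBasis A P').baseChange B).repr t j) h0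
      simpa [Fintype.linearCombination_apply, map_sum, Module.Basis.baseChange_repr_tmul,
        Module.Basis.baseChange_apply, TensorProduct.smul_tmul'] using h1)

theorem uBeta_uq (y : (kernel (uh φ₀)).obj (Adeq.pt B)) (i : Fin (urk P)) :
    uBeta φ₀ y (uq φ₀ i) = ((ubas P).baseChange B).repr (el P B (ap (kernel.ι (uh φ₀)) B y)) i := by
  classical
  change Fintype.linearCombination A _ (Pi.single i (1 : A)) = _
  rw [Fintype.linearCombination_apply_single, one_smul]

theorem el_eq_sum (y : (kernel (uh φ₀)).obj (Adeq.pt B)) :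
    el P B (ap (kernel.ι (uh φ₀)) B y) = ∑ i, uBeta φ₀ y (uq φ₀ i) ⊗ₜ[A] ubas P i := by
  conv_lhs => rw [← ((ubas P).baseChange B).sum_repr (el P B (ap (kernel.ι (uh φ₀)) B y))]
  exact Finset.sum_congr rfl fun i _ => by
    rw [Module.Basis.baseChange_apply, TensorProduct.smul_tmul', smul_eq_mul, mul_one, uBeta_uq]

theorem uQ_hom_ext {N : Type u} [AddCommGroup N] [Module A N] {f g : UQ φ₀ →ₗ[A] N}
    (h : ∀ i, f (uq φ₀ i) = g (uq φ₀ i)) : f = g := by
  classical
  refine Submodule.linearMap_qext _ (LinearMap.pi_ext' fun i => LinearMap.ext_ring ?_)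
  exact h i

theorem uBeta_add (y y' : (kernel (uh φ₀)).obj (Adeq.pt B)) : uBeta φ₀ (y + y') = uBeta φ₀ y + uBeta φ₀ y' :=
  uQ_hom_ext φ₀ fun i => by simp only [LinearMap.add_apply, uBeta_uq, map_add, Finsupp.add_apply]

theorem uBeta_smul (c : B) (y : (kernel (uh φ₀)).obj (Adeq.pt B)) :
    uBeta φ₀ (c • y) = (LinearMap.mulLeft A (c : (B : Type u))) ∘ₗ uBeta φ₀ y :=
  uQ_hom_ext φ₀ fun i => by
    simp only [LinearMap.comp_apply, uBeta_uq, ap_smul, map_smul, Finsupp.smul_apply, LinearMap.mulLeft_apply,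
      smul_eq_mul]

theorem uBeta_tr {B' : Adeq.Alg A} (h : B ⟶ B') (y : (kernel (uh φ₀)).obj (Adeq.pt B)) :
    uBeta φ₀ (tr (kernel (uh φ₀)) h y) = h.hom.toLinearMap ∘ₗ uBeta φ₀ y :=
  uQ_hom_ext φ₀ fun i => by
    rw [uBeta_uq, ap_tr, el_tr, el_eq_sum φ₀ y]
    simp [map_sum, Module.Basis.baseChange_repr_tmul, Finsupp.single_apply]

end AdeqLib
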